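import Mathlib

/-!
Simultaneous eigenspaces of a finite abelian group of operators indexed by a self-dual pairing,
and the resulting lower bound for the dimension.
-/

set_option autoImplicit false

namespace CfsgLib.InvCentralizers.AbelianEigen

variable {M : Type*} [AddCommGroup M] [Fintype M] {V : Type*} [AddCommGroup V] [Module ℂ V]

/-- The eigenspace for the character `P B`. -/
def eig (P : M → M → ℂ) (U : M → Module.End ℂ V) (B : M) : Submodule ℂ V where
  carrier := {w | ∀ S, U S w = P B S • w}
  add_mem' {v w} hv hw := fun S => by rw [map_add, hv S, hw S, smul_add]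
  zero_mem' := fun S => by simp
  smul_mem' a {w} hw := fun S => by rw [map_smul, hw S, smul_comm]

/-- The data: a nondegenerate biadditive pairing and a representation of `M`. -/
structure Setup (P : M → M → ℂ) (U : M → Module.End ℂ V) : Prop where
  addL : ∀ B B' S, P (B + B') S = P B S * P B' S
  addR : ∀ B S S', P B (S + S') = P B S * P B S'
  zeroL : ∀ S, P 0 S = 1
  orth : ∀ B, B ≠ 0 → ∑ S, P B S = 0
  orth' : ∀ S, S ≠ 0 → ∑ B, P B S = 0
  zeroR : ∀ B, P B 0 = 1
  map_zero : U 0 = 1
  map_add : ∀ S S', U (S + S') = U S * U S'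

variable {P : M → M → ℂ} {U : M → Module.End ℂ V}

/-- The (unnormalised) projection onto `eig B`. -/
def proj (P : M → M → ℂ) (U : M → Module.End ℂ V) (B : M) : Module.End ℂ V :=
  ∑ S, P B (-S) • U S

theorem proj_apply_mem (h : Setup P U) (B : M) (w : V) : proj P U B w ∈ eig P U B := by
  intro S₀
  simp only [proj, LinearMap.sum_apply, LinearMap.smul_apply, map_sum, map_smul, Finset.smul_sum,
    smul_smul]
  refine Fintype.sum_equiv (Equiv.addLeft S₀) _ _ fun S => ?_
  simp only [Equiv.coe_addLeft, h.map_add, Module.End.mul_apply, ← h.addR]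
  congr 2
  abel

theorem proj_apply_eig (h : Setup P U) (B B' : M) {w : V} (hw : w ∈ eig P U B') :
    proj P U B w = (∑ S, P (B' - B) S) • w := by
  simp only [proj, LinearMap.sum_apply, LinearMap.smul_apply, hw _, smul_smul, Finset.sum_smul]
  refine Finset.sum_congr rfl fun S _ => ?_
  congr 1
  rw [sub_eq_add_neg, h.addL, mul_comm]
  congr 1
  have h1 : P (-B) S * P B S = 1 := by rw [← h.addL, neg_add_cancel, h.zeroL]
  have h2 : P B (-S) * P B S = 1 := by rw [← h.addR, neg_add_cancel, h.zeroR]
  have h3 : P B S ≠ 0 := right_ne_zero_of_mul_eq_one h1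
  exact mul_right_cancel₀ h3 (h2.trans h1.symm)

theorem sum_proj (h : Setup P U) (w : V) : ∑ B, proj P U B w = (Fintype.card M : ℂ) • w := by
  classical
  simp only [proj, LinearMap.sum_apply, LinearMap.smul_apply]
  rw [Finset.sum_comm, Finset.sum_eq_single 0]
  · simp [h.zeroR, h.map_zero, Nat.cast_smul_eq_nsmul]
  · intro S _ hS
    rw [← Finset.sum_smul, h.orth' _ (neg_ne_zero.2 hS), zero_smul]
  · simp

/-- A nontrivial action has a nontrivial eigencharacter. -/
theorem exists_eig (h : Setup P U) (hne : ∃ S, U S ≠ 1) :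
    ∃ B, B ≠ 0 ∧ ∃ w ∈ eig P U B, w ≠ 0 := by
  classical
  by_contra hcon
  push Not at hcon
  obtain ⟨S₁, hS₁⟩ := hne
  refine hS₁ (LinearMap.ext fun w => ?_)
  have hsum := sum_proj h w
  rw [Finset.sum_eq_single 0 (fun B _ hB => hcon B hB _ (proj_apply_mem h B w)) (by simp)] at hsum
  have h1 := proj_apply_mem h 0 w S₁
  rw [h.zeroL, one_smul, hsum, LinearMap.map_smul] at h1
  have hq : (Fintype.card M : ℂ) ≠ 0 := by exact_mod_cast Fintype.card_ne_zero
  exact smul_right_injective V hq h1

/-- Distinct eigencharacters give independent subspaces. -/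
theorem card_le_finrank [FiniteDimensional ℂ V] (h : Setup P U) (O : Finset M)
    (hO : ∀ B ∈ O, ∃ w ∈ eig P U B, w ≠ 0) : O.card ≤ Module.finrank ℂ V := by
  classical
  choose! w hw hw0 using hO
  have hind : LinearIndependent ℂ (fun B : O => w B) := by
    rw [Fintype.linearIndependent_iff]
    intro g hg B₀
    have h1 := congrArg (proj P U (B₀ : M)) hg
    simp only [map_sum, LinearMap.map_smul, LinearMap.map_zero] at h1
    rw [Finset.sum_eq_single B₀] at h1
    · rw [proj_apply_eig h _ _ (hw B₀ B₀.2), sub_self] at h1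
      simp only [h.zeroL, Finset.sum_const, Finset.card_univ, nsmul_eq_mul, mul_one,
        smul_smul] at h1
      have hq : (Fintype.card M : ℂ) ≠ 0 := by exact_mod_cast Fintype.card_ne_zero
      by_contra hgB
      exact hw0 B₀ B₀.2 ((smul_eq_zero.1 h1).resolve_left (mul_ne_zero hgB hq))
    · intro B _ hB
      rw [proj_apply_eig h _ _ (hw B B.2), h.orth _ (sub_ne_zero.2 fun e => hB (Subtype.ext e)),
        zero_smul, smul_zero]
    · simp
  simpa using hind.fintype_card_le_finrank

/-- Distinct eigencharacters with `d`-dimensional eigenspaces need `d * |O|` dimensions. -/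
theorem mul_card_le_finrank [FiniteDimensional ℂ V] (h : Setup P U) (O : Finset M) (d : ℕ)
    (hO : ∀ B ∈ O, ∃ w : Fin d → V, LinearIndependent ℂ w ∧ ∀ i, w i ∈ eig P U B) :
    O.card * d ≤ Module.finrank ℂ V := by
  classical
  choose! w hwi hw using hO
  have hind : LinearIndependent ℂ (fun x : O × Fin d => w x.1 x.2) := by
    rw [Fintype.linearIndependent_iff]
    intro g hg
    rintro ⟨B₀, i₀⟩
    have h1 := congrArg (proj P U (B₀ : M)) hg
    simp only [map_sum, LinearMap.map_smul, LinearMap.map_zero, Fintype.sum_prod_type] at h1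
    rw [Finset.sum_eq_single B₀] at h1
    · simp only [proj_apply_eig h _ _ (hw B₀ B₀.2 _), sub_self, h.zeroL, Finset.sum_const,
        Finset.card_univ, nsmul_eq_mul, mul_one, smul_smul] at h1
      have h2 := Fintype.linearIndependent_iff.1 (hwi B₀ B₀.2) _ h1 i₀
      have hq : (Fintype.card M : ℂ) ≠ 0 := by exact_mod_cast Fintype.card_ne_zero
      exact (mul_eq_zero.1 h2).resolve_right hq
    · intro B _ hB
      refine Finset.sum_eq_zero fun i _ => ?_
      rw [proj_apply_eig h _ _ (hw B B.2 i),
        h.orth _ (sub_ne_zero.2 fun e => hB (Subtype.ext e)), zero_smul, smul_zero]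
    · simp
  simpa using hind.fintype_card_le_finrank

end CfsgLib.InvCentralizers.AbelianEigen
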