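import Mathlib
import Cfsg.Agent.Lib.Forms.SympBridge
import Cfsg.Agent.Lib.Laws.Classical
import Cfsg.Agent.Lib.InvCentralizers.AbelianEigen

/-!
Every representation of `Sp_2n(q)`, `q` odd, of degree less than `(q^n - 1)/2` is trivial.
-/

set_option autoImplicit false

namespace CfsgLib.InvCentralizers.SympBound

open Matrix CfsgLib.InvCentralizers.AbelianEigen CfsgLib.Laws

variable {F : Type*} [Field F] {n : ℕ}

/-- Symmetric matrices. -/
def symMat (n : ℕ) (F : Type*) [Field F] : Submodule F (Matrix (Fin n) (Fin n) F) where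
  carrier := {A | Aᵀ = A}
  add_mem' {A B} hA hB := by
    simp only [Set.mem_setOf_eq] at hA hB ⊢
    rw [transpose_add, hA, hB]
  zero_mem' := transpose_zero
  smul_mem' a {A} hA := by
    simp only [Set.mem_setOf_eq] at hA ⊢
    rw [transpose_smul, hA]

theorem symMat_apply (B : symMat n F) (i j : Fin n) :
    (B : Matrix (Fin n) (Fin n) F) i j = (B : Matrix (Fin n) (Fin n) F) j i := by
  have h := congrFun (congrFun B.2 j) i
  rwa [transpose_apply] at h

theorem transpose_coe (B : symMat n F) :
    (B : Matrix (Fin n) (Fin n) F)ᵀ = (B : Matrix (Fin n) (Fin n) F) := B.2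

/-- Congruence of symmetric matrices. -/
def congrSym (A : Matrix (Fin n) (Fin n) F) (B : symMat n F) : symMat n F :=
  ⟨A * (B : Matrix (Fin n) (Fin n) F) * Aᵀ, by
    change (A * (B : Matrix (Fin n) (Fin n) F) * Aᵀ)ᵀ = A * (B : Matrix (Fin n) (Fin n) F) * Aᵀ
    rw [transpose_mul, transpose_mul, transpose_transpose, transpose_coe, Matrix.mul_assoc]⟩

/-- The quadratic form of a symmetric matrix. -/
def qval (B : symMat n F) (v : Fin n → F) : F := v ⬝ᵥ ((B : Matrix (Fin n) (Fin n) F) *ᵥ v)

theorem qval_congrSym (A : Matrix (Fin n) (Fin n) F) (B : symMat n F) (v : Fin n → F) :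
    qval (congrSym A B) v = qval B (Aᵀ *ᵥ v) := by
  simp only [qval, congrSym]
  rw [← mulVec_mulVec, ← mulVec_mulVec, dotProduct_mulVec, mulVec_transpose]

theorem congrSym_mul (A A' : Matrix (Fin n) (Fin n) F) (B : symMat n F) :
    congrSym (A * A') B = congrSym A (congrSym A' B) := by
  apply Subtype.ext
  simp [congrSym, transpose_mul, Matrix.mul_assoc]

theorem exists_qval_ne (h2 : (2 : F) ≠ 0) {B : symMat n F} (hB : B ≠ 0) : ∃ v, qval B v ≠ 0 := by
  by_contra hcon
  push Not at hcon
  refine hB (Subtype.ext ?_)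
  ext i j
  have hd : ∀ i, (B : Matrix (Fin n) (Fin n) F) i i = 0 := fun i => by
    have := hcon (Pi.single i 1)
    simpa [qval] using this
  have := hcon (Pi.single i 1 + Pi.single j 1)
  simp [qval, Matrix.mulVec_add, dotProduct_add, add_dotProduct, hd, symMat_apply B j i] at this
  have h3 : (2 : F) * (B : Matrix (Fin n) (Fin n) F) i j = 0 := by linear_combination this
  simpa using (mul_eq_zero.1 h3).resolve_left h2

/-- An invertible matrix moving one nonzero vector to another. -/
theorem exists_transpose_mulVec {v w : Fin n → F} (hv : v ≠ 0) (hw : w ≠ 0) :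
    ∃ A : GL (Fin n) F, (A : Matrix (Fin n) (Fin n) F)ᵀ *ᵥ v = w := by
  classical
  have key : ∀ u : Fin n → F, u ≠ 0 → ∀ i : Fin n, ∃ A : GL (Fin n) F,
      (A : Matrix (Fin n) (Fin n) F) *ᵥ Pi.single i 1 = u := by
    intro u hu i
    obtain ⟨k, hk⟩ := Function.ne_iff.1 hu
    have hdet : (((1 : Matrix (Fin n) (Fin n) F).updateCol k u) *
        (Equiv.swap i k).permMatrix F).det ≠ 0 := by
      rw [det_mul, det_permutation, ← cramer_apply, cramer_one]
      refine mul_ne_zero hk ?_
      rcases Int.units_eq_one_or (Equiv.Perm.sign (Equiv.swap i k)) with h | h <;> simp [h]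
    refine ⟨GeneralLinearGroup.mkOfDetNeZero _ hdet, ?_⟩
    change (((1 : Matrix (Fin n) (Fin n) F).updateCol k u) * (Equiv.swap i k).permMatrix F) *ᵥ _ = u
    rw [← mulVec_mulVec, permMatrix_mulVec]
    have : (Pi.single i (1 : F) : Fin n → F) ∘ ⇑(Equiv.swap i k) = Pi.single k 1 := by
      funext j
      rcases eq_or_ne j k with rfl | hj
      · simp
      · rcases eq_or_ne j i with rfl | hji
        · simp [hj, Ne.symm hj]
        · simp [hj, hji, Equiv.swap_apply_of_ne_of_ne hji hj]
    rw [this, mulVec_single_one]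
    funext j
    simp
  obtain ⟨i, -⟩ := Function.ne_iff.1 hv
  obtain ⟨A, hA⟩ := key v hv i
  obtain ⟨A', hA'⟩ := key w hw i
  refine ⟨GeneralLinearGroup.mkOfDetNeZero ((A' * A⁻¹ : GL (Fin n) F) : Matrix (Fin n) (Fin n) F)ᵀ
    (by rw [det_transpose]; exact ((Matrix.isUnit_iff_isUnit_det _).1 (A' * A⁻¹).isUnit).ne_zero), ?_⟩
  change ((((A' * A⁻¹ : GL (Fin n) F) : Matrix (Fin n) (Fin n) F))ᵀ)ᵀ *ᵥ v = w
  rw [transpose_transpose, Units.val_mul, ← mulVec_mulVec]
  conv_lhs => rw [← hA]
  rw [mulVec_mulVec (Pi.single i 1), Units.inv_mul, one_mulVec, hA']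

theorem congrSym_ne_zero {A : GL (Fin n) F} {B : symMat n F} (hB : B ≠ 0) :
    congrSym (A : Matrix (Fin n) (Fin n) F) B ≠ 0 := by
  intro h
  refine hB ?_
  have : congrSym ((A⁻¹ : GL (Fin n) F) : Matrix (Fin n) (Fin n) F)
      (congrSym (A : Matrix (Fin n) (Fin n) F) B) = B := by
    rw [← congrSym_mul, ← Units.val_mul, inv_mul_cancel]
    apply Subtype.ext
    simp [congrSym]
  rw [h] at this
  rw [← this]
  apply Subtype.ext
  simp [congrSym]

variable [Fintype F]

/-- Every congruence class of nonzero symmetric matrices has at least `(q^n - 1)/2` elements. -/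
theorem orbit_card (h2 : (2 : F) ≠ 0) {B : symMat n F} (hB : B ≠ 0) [Fintype (symMat n F)]
    (O : Finset (symMat n F))
    (hO : ∀ A : GL (Fin n) F, congrSym (A : Matrix (Fin n) (Fin n) F) B ∈ O)
    (hO' : ∀ C ∈ O, ∃ A : GL (Fin n) F, C = congrSym (A : Matrix (Fin n) (Fin n) F) B) :
    Fintype.card F ^ n - 1 ≤ 2 * O.card := by
  classical
  obtain ⟨v₀, hv₀⟩ := exists_qval_ne h2 hB
  have hv₀0 : v₀ ≠ 0 := fun h => hv₀ (by simp [h, qval])
  set a := qval B v₀ with ha
  have hn : 0 < n := by
    rcases Nat.eq_zero_or_pos n with h | h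
    · subst h; exact absurd (Subsingleton.elim v₀ 0) hv₀0
    · exact h
  set q := Fintype.card F with hq
  have hM : ∀ v : Fin n → F, v ≠ 0 → q ^ (n - 1) ≤ (O.filter fun C => qval C v = a).card := by
    intro v hv
    obtain ⟨A₀, hA₀⟩ := exists_transpose_mulVec hv hv₀0
    set C₀ := congrSym (A₀ : Matrix (Fin n) (Fin n) F) B with hC₀
    have hC₀v : qval C₀ v = a := by rw [hC₀, qval_congrSym, hA₀]
    obtain ⟨k, hk⟩ := Function.ne_iff.1 hv
    simp only [Pi.zero_apply] at hk
    let φ : ({j : Fin n // j ≠ k} → F) → (Fin n → F) := fun x j =>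
      if h : j = k then -(∑ i : {i : Fin n // i ≠ k}, x i * v i) / v k else x ⟨j, h⟩
    have hφ : ∀ x, φ x ⬝ᵥ v = 0 := by
      intro x
      rw [dotProduct, ← Finset.add_sum_erase _ _ (Finset.mem_univ k)]
      simp only [φ, dif_pos]
      rw [div_mul_cancel₀ _ hk, neg_add_eq_zero]
      rw [Finset.sum_subtype (Finset.univ.erase k) (p := fun j => j ≠ k) (by simp)]
      exact Finset.sum_congr rfl fun i _ => by rw [dif_neg i.2]
    have hdet : ∀ x, (1 + vecMulVec (φ x) v).det ≠ 0 := by
      intro x
      rw [show vecMulVec (φ x) v = replicateCol Unit (φ x) * replicateRow Unit v from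
        (vecMulVec_eq Unit _ _), det_one_add_replicateCol_mul_replicateRow, dotProduct_comm, hφ]
      simp
    let K : ({j : Fin n // j ≠ k} → F) → GL (Fin n) F := fun x =>
      GeneralLinearGroup.mkOfDetNeZero _ (hdet x)
    let f : ({j : Fin n // j ≠ k} → F) → symMat n F := fun x =>
      congrSym ((K x * A₀ : GL (Fin n) F) : Matrix (Fin n) (Fin n) F) B
    have hKv : ∀ x, (1 + vecMulVec (φ x) v)ᵀ *ᵥ v = v := by
      intro x
      rw [transpose_add, transpose_one, transpose_vecMulVec, add_mulVec, one_mulVec,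
        vecMulVec_mulVec, hφ]
      simp
    have hf : ∀ x, f x ∈ O.filter fun C => qval C v = a := by
      intro x
      refine Finset.mem_filter.2 ⟨hO _, ?_⟩
      simp only [f, Units.val_mul]
      rw [congrSym_mul, qval_congrSym]
      change qval C₀ ((1 + vecMulVec (φ x) v)ᵀ *ᵥ v) = a
      rw [hKv, hC₀v]
    have hfv : ∀ x, (f x : Matrix (Fin n) (Fin n) F) *ᵥ v =
        (C₀ : Matrix (Fin n) (Fin n) F) *ᵥ v + a • φ x := by
      intro x
      simp only [f, Units.val_mul]
      rw [congrSym_mul]
      change ((1 + vecMulVec (φ x) v) * (C₀ : Matrix (Fin n) (Fin n) F) *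
        (1 + vecMulVec (φ x) v)ᵀ) *ᵥ v = _
      rw [← mulVec_mulVec, hKv, ← mulVec_mulVec, add_mulVec, one_mulVec, vecMulVec_mulVec]
      have : v ⬝ᵥ ((C₀ : Matrix (Fin n) (Fin n) F) *ᵥ v) = a := hC₀v
      rw [this]
      simp
    have hinj : Function.Injective f := by
      intro x y hxy
      have h1 := hfv x
      rw [hxy, hfv y] at h1
      have h3 : φ y = φ x := smul_right_injective (Fin n → F) hv₀ (add_left_cancel h1)
      funext i
      have h4 := congrFun h3 i
      simp only [φ, dif_neg i.2] at h4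
      exact h4.symm
    calc q ^ (n - 1) = (Finset.univ : Finset ({j : Fin n // j ≠ k} → F)).card := by
          simp [hq, Fintype.card_subtype_compl]
      _ = (Finset.univ.image f).card := (Finset.card_image_of_injective _ hinj).symm
      _ ≤ _ := Finset.card_le_card fun C hC => by
          obtain ⟨x, -, rfl⟩ := Finset.mem_image.1 hC
          exact hf x
  have hN : ∀ C ∈ O, ((Finset.univ : Finset (Fin n → F)).filter fun v => qval C v = a).card ≤
      2 * q ^ (n - 1) := by
    intro C hC
    obtain ⟨A, rfl⟩ := hO' C hC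
    set C := congrSym (A : Matrix (Fin n) (Fin n) F) B
    obtain ⟨u, hu⟩ := exists_qval_ne h2 (congrSym_ne_zero (A := A) hB)
    obtain ⟨k, hk⟩ := Function.ne_iff.1 (fun h : u = 0 => hu (by simp [h, qval]))
    simp only [Pi.zero_apply] at hk
    let π : (Fin n → F) → ({j : Fin n // j ≠ k} → F) := fun v j => v j - v k / u k * u j
    refine le_trans (Finset.card_le_mul_card_image (f := π) _ 2 fun x _ => ?_) ?_
    · set S := ((Finset.univ : Finset (Fin n → F)).filter fun v => qval C v = a).filter
        fun v => π v = x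
      rcases Finset.eq_empty_or_nonempty S with h | ⟨v₁, hv₁⟩
      · simp [h]
      · simp only [S, Finset.mem_filter, Finset.mem_univ, true_and] at hv₁
        have hline : ∀ v ∈ S, v = v₁ + ((v k - v₁ k) / u k) • u := by
          intro v hv
          simp only [S, Finset.mem_filter, Finset.mem_univ, true_and] at hv
          funext j
          by_cases hj : j = k
          · subst hj
            simp only [Pi.add_apply, Pi.smul_apply, smul_eq_mul]
            field_simp
            ring
          · have := congrFun (hv.2.trans hv₁.2.symm) ⟨j, hj⟩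
            simp only [π] at this
            simp only [Pi.add_apply, Pi.smul_apply, smul_eq_mul]
            linear_combination this
        set β := u ⬝ᵥ ((C : Matrix (Fin n) (Fin n) F) *ᵥ v₁) + v₁ ⬝ᵥ
          ((C : Matrix (Fin n) (Fin n) F) *ᵥ u)
        have hquad : ∀ t : F, qval C (v₁ + t • u) = qval C v₁ + β * t + qval C u * (t * t) := by
          intro t
          simp only [qval, β, mulVec_add, mulVec_smul, dotProduct_add, add_dotProduct,
            dotProduct_smul, smul_dotProduct, smul_eq_mul]
          ring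
        have hsub : S ⊆ ({v₁, v₁ + (-β / qval C u) • u} : Finset (Fin n → F)) := by
          intro v hv
          have hl := hline v hv
          simp only [S, Finset.mem_filter, Finset.mem_univ, true_and] at hv
          have hv1 := hv.1
          rw [hl] at hv1 ⊢
          set t := (v k - v₁ k) / u k
          rw [hquad, hv₁.1] at hv1
          have h0 : t * (β + qval C u * t) = 0 := by linear_combination hv1
          rcases mul_eq_zero.1 h0 with h | h
          · simp [h]
          · have : t = -β / qval C u := by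
              rw [eq_div_iff hu]; linear_combination h
            simp [this]
        exact (Finset.card_le_card hsub).trans Finset.card_le_two
    · refine Nat.mul_le_mul_left 2 ((Finset.card_le_univ _).trans ?_)
      simp [hq, Fintype.card_subtype_compl]
  have hsum : ∑ v : Fin n → F, (O.filter fun C => qval C v = a).card =
      ∑ C ∈ O, ((Finset.univ : Finset (Fin n → F)).filter fun v => qval C v = a).card := by
    simp only [Finset.card_filter]
    exact Finset.sum_comm
  have h1 : (q ^ n - 1) * q ^ (n - 1) ≤ ∑ v : Fin n → F, (O.filter fun C => qval C v = a).card := by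
    calc (q ^ n - 1) * q ^ (n - 1)
        = ∑ _v ∈ (Finset.univ : Finset (Fin n → F)).erase 0, q ^ (n - 1) := by
          simp [hq]
      _ ≤ ∑ v ∈ (Finset.univ : Finset (Fin n → F)).erase 0,
            (O.filter fun C => qval C v = a).card :=
          Finset.sum_le_sum fun v hv => hM v (Finset.ne_of_mem_erase hv)
      _ ≤ _ := Finset.sum_le_sum_of_subset (Finset.erase_subset _ _)
  have h3 := h1.trans (hsum.le.trans (Finset.sum_le_sum hN))
  rw [Finset.sum_const, smul_eq_mul, ← Nat.mul_assoc, Nat.mul_comm O.card 2] at h3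
  exact Nat.le_of_mul_le_mul_right h3 (pow_pos (Fintype.card_pos (α := F)) _)

/-- The fixed primitive character. -/
noncomputable def psi (F : Type*) [Field F] [Fintype F] : AddChar F ℂ :=
  AddChar.FiniteField.primitiveChar_to_Complex F

theorem psi_prim : (psi F).IsPrimitive := AddChar.FiniteField.primitiveChar_to_Complex_isPrimitive F

theorem exists_psi_ne {a : F} (ha : a ≠ 0) : ∃ c, psi F (a * c) ≠ 1 := by
  by_contra hcon
  push Not at hcon
  exact psi_prim ha (DFunLike.ext _ _ fun c => by simpa [AddChar.mulShift_apply] using hcon c)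

/-- The pairing on symmetric matrices. -/
noncomputable def pairing (B S : symMat n F) : ℂ :=
  psi F (trace ((B : Matrix (Fin n) (Fin n) F) * (S : Matrix (Fin n) (Fin n) F)))

theorem pairing_comm (B S : symMat n F) : pairing B S = pairing S B := by
  rw [pairing, pairing, trace_mul_comm]

theorem pairing_addR (B S S' : symMat n F) : pairing B (S + S') = pairing B S * pairing B S' := by
  simp only [pairing, Submodule.coe_add, Matrix.mul_add, trace_add, AddChar.map_add_eq_mul]

theorem pairing_zeroR (B : symMat n F) : pairing B 0 = 1 := by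
  simp [pairing]

theorem pairing_orth [Fintype (symMat n F)] (h2 : (2 : F) ≠ 0) {B : symMat n F} (hB : B ≠ 0) :
    ∑ S, pairing B S = 0 := by
  let χ : AddChar (symMat n F) ℂ :=
    { toFun := pairing B
      map_zero_eq_one' := pairing_zeroR B
      map_add_eq_mul' := pairing_addR B }
  refine AddChar.sum_eq_zero_of_ne_one (ψ := χ) fun h => ?_
  obtain ⟨v, hv⟩ := exists_qval_ne h2 hB
  obtain ⟨c, hc⟩ := exists_psi_ne hv
  have hmem : vecMulVec v v ∈ symMat n F := transpose_vecMulVec v v
  refine hc ?_
  have h1 : pairing B (c • ⟨vecMulVec v v, hmem⟩) = 1 := DFunLike.congr_fun h _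
  rw [← h1, pairing, Submodule.coe_smul, Matrix.mul_smul, trace_smul, mul_vecMulVec,
    trace_vecMulVec, smul_eq_mul, dotProduct_comm]
  exact congrArg _ (mul_comm _ _)

/-- The lower unipotent matrix of a symmetric matrix. -/
def lower (S : symMat n F) : Matrix.symplecticGroup (Fin n) F :=
  ⟨fromBlocks 1 0 (S : Matrix (Fin n) (Fin n) F) 1, by
    rw [SymplecticGroup.mem_iff]
    simp [Matrix.J, fromBlocks_transpose, fromBlocks_multiply, transpose_coe]⟩

theorem lower_add (S S' : symMat n F) : lower (S + S') = lower S * lower S' := by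
  apply Subtype.ext
  simp [lower, fromBlocks_multiply, add_comm]

theorem lower_zero : lower (0 : symMat n F) = 1 := by
  apply Subtype.ext
  simp [lower]

theorem lower_mul_glSp (A : GL (Fin n) F) (S : symMat n F) :
    lower S * glSp n A = glSp n A * lower (congrSym (A : Matrix (Fin n) (Fin n) F)ᵀ S) := by
  apply Subtype.ext
  have h : ((A⁻¹ : GL (Fin n) F) : Matrix (Fin n) (Fin n) F)ᵀ *
      (A : Matrix (Fin n) (Fin n) F)ᵀ = 1 := by
    rw [← transpose_mul, Units.mul_inv, transpose_one]
  rw [Matrix.coe_units_inv] at h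
  simp [lower, glSp, doubleHom, congrSym, fromBlocks_multiply, ← Matrix.mul_assoc, h]

theorem pairing_congrSym (A : Matrix (Fin n) (Fin n) F) (B S : symMat n F) :
    pairing B (congrSym Aᵀ S) = pairing (congrSym A B) S := by
  simp only [pairing, congrSym, transpose_transpose]
  rw [trace_mul_cycle' (B : Matrix (Fin n) (Fin n) F) (Aᵀ * (S : Matrix (Fin n) (Fin n) F)) A]
  simp only [Matrix.mul_assoc]

section action

variable {V : Type*} [AddCommGroup V] [Module ℂ V]
  (ρ : Representation ℂ (Matrix.symplecticGroup (Fin n) F) V)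

theorem setup [Fintype (symMat n F)] (h2 : (2 : F) ≠ 0) :
    Setup (pairing (n := n) (F := F)) (fun S => ρ (lower S)) where
  addL B B' S := by rw [pairing_comm, pairing_addR, pairing_comm S B, pairing_comm S B']
  addR := pairing_addR
  zeroL S := by rw [pairing_comm, pairing_zeroR]
  zeroR := pairing_zeroR
  orth B hB := pairing_orth h2 hB
  orth' S hS := by simpa only [pairing_comm _ S] using pairing_orth h2 hS
  map_zero := by simp [lower_zero]
  map_add S S' := by simp [lower_add]

theorem glSp_mem_eig (A : GL (Fin n) F) {B : symMat n F} {w : V}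
    (hw : w ∈ eig (pairing (n := n) (F := F)) (fun S => ρ (lower S)) B) :
    ρ (glSp n A) w ∈ eig (pairing (n := n) (F := F)) (fun S => ρ (lower S))
      (congrSym (A : Matrix (Fin n) (Fin n) F) B) := by
  intro S
  change ρ (lower S) (ρ (glSp n A) w) = _ • ρ (glSp n A) w
  rw [← Module.End.mul_apply, ← map_mul, lower_mul_glSp, map_mul, Module.End.mul_apply]
  have h1 : ρ (lower (congrSym (A : Matrix (Fin n) (Fin n) F)ᵀ S)) w = _ • w := hw _
  rw [h1, map_smul, pairing_congrSym]

/-- A representation trivial on the lower unipotent group is trivial. -/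
theorem eq_one_of_lower (hn : 0 < n) (h : ∀ S : symMat n F, ρ (lower S) = 1) :
    ∀ g, ρ g = 1 := by
  classical
  intro g
  have hg : g ∈ Subgroup.closure {A : Matrix.symplecticGroup (Fin n) F |
      ∃ (w : Fin n ⊕ Fin n → F) (c : F),
        (A : Matrix (Fin n ⊕ Fin n) (Fin n ⊕ Fin n) F) = Cfsg.sympTransvection n w c} := by
    rw [CfsgLib.Forms.closure_sympTransvection]; trivial
  induction hg using Subgroup.closure_induction with
  | one => exact map_one ρ
  | mul x y _ _ hx hy => rw [map_mul, hx, hy, one_mul]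
  | inv x _ hx =>
    have h1 : ρ x * ρ x⁻¹ = 1 := by rw [← map_mul, mul_inv_cancel, map_one]
    rwa [hx, one_mul] at h1
  | mem x hx =>
    obtain ⟨w, c, hx⟩ := hx
    let i₀ : Fin n := ⟨0, hn⟩
    let e : Fin n ⊕ Fin n → F := Pi.single (Sum.inr i₀) 1
    let e' : Fin n ⊕ Fin n → F := Pi.single (Sum.inl i₀) 1
    rcases eq_or_ne w 0 with rfl | hw
    · have : x = 1 := Subtype.ext (hx.trans (by simp [Cfsg.sympTransvection]))
      rw [this, map_one]
    obtain ⟨v, hv⟩ : ∃ v, Cfsg.sympForm n F w v = 1 := by
      by_contra hcon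
      push Not at hcon
      refine hw (CfsgLib.Omega.sympBilin_nondegenerate w fun u => ?_)
      by_contra hu
      refine hcon ((CfsgLib.Omega.sympBilin n F w u)⁻¹ • u) ?_
      rw [← CfsgLib.Omega.sympBilin_apply, map_smul, smul_eq_mul, inv_mul_cancel₀ hu]
    have he : Cfsg.sympForm n F e e' = 1 := by
      simp [Cfsg.sympForm, e, e', Matrix.J, fromBlocks]
    obtain ⟨A, hA, -⟩ := CfsgLib.Forms.exists_sp_map_pair e e' w v he hv
    have hmem : (-c) • Matrix.single i₀ i₀ (1 : F) ∈ symMat n F :=
      Submodule.smul_mem _ _ (transpose_single _ _ _)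
    have hT : ((lower ⟨(-c) • Matrix.single i₀ i₀ (1 : F), hmem⟩ :
        Matrix.symplecticGroup (Fin n) F) : Matrix (Fin n ⊕ Fin n) (Fin n ⊕ Fin n) F) =
        Cfsg.sympTransvection n e c := by
      ext (i | i) (j | j) <;>
        simp [lower, Cfsg.sympTransvection, vecMulVec, e, Matrix.J, fromBlocks, Matrix.one_apply,
          Matrix.single_apply, Pi.single_apply, mulVec, dotProduct] <;> grind
    have hconj : x * A = A * lower ⟨(-c) • Matrix.single i₀ i₀ (1 : F), hmem⟩ := by
      apply Subtype.ext
      change (x : Matrix (Fin n ⊕ Fin n) (Fin n ⊕ Fin n) F) * (A : Matrix _ _ F) =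
        (A : Matrix _ _ F) * _
      rw [hT, hx, ← hA, ← CfsgLib.Forms.conj_sympTransvection A.2,
        Matrix.nonsing_inv_mul_cancel_right _ _ (SymplecticGroup.symplectic_det A.2)]
    have h2 : x = A * lower ⟨(-c) • Matrix.single i₀ i₀ (1 : F), hmem⟩ * A⁻¹ := by
      rw [← hconj, mul_inv_cancel_right]
    rw [h2, map_mul, map_mul, h, mul_one, ← map_mul, mul_inv_cancel, map_one]

/-- Every representation of degree less than `(q ^ n - 1) / 2` is trivial. -/
theorem eq_one_of_finrank_lt [FiniteDimensional ℂ V] (hn : 0 < n) (h2 : (2 : F) ≠ 0)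
    (h : 2 * Module.finrank ℂ V < Fintype.card F ^ n - 1) : ∀ g, ρ g = 1 := by
  classical
  have : Fintype (symMat n F) := Fintype.ofFinite _
  refine eq_one_of_lower ρ hn ?_
  by_contra hcon
  push Not at hcon
  obtain ⟨B, hB, w, hw, hw0⟩ := exists_eig (setup ρ h2) hcon
  let O : Finset (symMat n F) := Finset.univ.filter fun C =>
    ∃ A : GL (Fin n) F, C = congrSym (A : Matrix (Fin n) (Fin n) F) B
  have h1 := orbit_card h2 hB O
    (fun A => Finset.mem_filter.2 ⟨Finset.mem_univ _, A, rfl⟩)
    (fun C hC => (Finset.mem_filter.1 hC).2)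
  have h3 : O.card ≤ Module.finrank ℂ V := card_le_finrank (setup ρ h2) O fun C hC => by
    obtain ⟨A, rfl⟩ := (Finset.mem_filter.1 hC).2
    refine ⟨_, glSp_mem_eig ρ A hw, fun h0 => hw0 ?_⟩
    have h5 : ρ (glSp n A⁻¹) (ρ (glSp n A) w) = 0 := by rw [h0, LinearMap.map_zero]
    rwa [← Module.End.mul_apply, ← map_mul, ← map_mul, inv_mul_cancel, map_one, map_one,
      Module.End.one_apply] at h5
  omega

end action


end CfsgLib.InvCentralizers.SympBound
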