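import Mathlib
import Cfsg.Agent.Lib.CharDegrees.SL2Counts
import Cfsg.Agent.Lib.Correspondences.SL2EvenDegrees
import Cfsg.Agent.Lib.Coherence.Virtual
import Cfsg.Agent.Lib.CharTheory.Linear
import Cfsg.Agent.Lib.InvCentralizers.SympBound

/-!
Values of the irreducible characters of `SL₂(q)`.
-/

set_option autoImplicit false
set_option linter.unusedSectionVars false
set_option linter.style.haveILetI false

namespace CfsgLib.InvCentralizers.SL2Tables

open Cfsg CfsgLib.SL2 CfsgLib.CharDegrees CfsgLib.CharTheory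
open CfsgLib.ClassicalLinear (upS upS_coe)
open Matrix
open scoped MatrixGroups

variable {F : Type*} [Field F] [Fintype F] [DecidableEq F]

local notation "M₂" => Matrix (Fin 2) (Fin 2) F
local notation "q" => (Fintype.card F : ℂ)

theorem cast_half (hodd : Odd (Fintype.card F)) :
    2 * (((Fintype.card F + 1) / 2 : ℕ) : ℂ) = q + 1 ∧
      2 * (((Fintype.card F - 1) / 2 : ℕ) : ℂ) = q - 1 := by
  obtain ⟨m, hm⟩ := hodd
  rw [hm, show (2 * m + 1 + 1) / 2 = m + 1 by omega, show (2 * m + 1 - 1) / 2 = m by omega]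
  push_cast
  constructor <;> ring

theorem steinberg_isIrr :
    IsIrrCharacter (SL(2, F)) (fun g => principalSeries (1 : MulChar F ℂ) g - 1) := by
  classical
  refine isIrrCharacter_of_norm_one ?_ ?_ ?_
  · exact ⟨_, _, principalSeries_isChar 1, IsIrrCharacter.isCharacter isIrrCharacter_one, rfl⟩
  · rw [show (fun g => principalSeries (1 : MulChar F ℂ) g - 1) =
      principalSeries (1 : MulChar F ℂ) - (fun _ : SL(2, F) => (1 : ℂ)) from rfl,
      classInner_sub_left, classInner_sub_right, classInner_sub_right,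
      classInner_conj_symm (principalSeries (1 : MulChar F ℂ)) (fun _ => (1 : ℂ)),
      classInner_one_ps, classInner_ps_ps, if_pos rfl, if_pos (one_mul _),
      classInner_self_of_isIrr isIrrCharacter_one]
    simp
  · simp [principalSeries_apply_one]
    exact Nat.cast_pos.2 Fintype.card_pos

theorem principalSeries_irr_iff (α : MulChar F ℂ) :
    IsIrrCharacter (SL(2, F)) (principalSeries α) ↔ α ^ 2 ≠ 1 := by
  classical
  rw [isIrrCharacter_iff_norm_one (principalSeries_isChar α), classInner_ps_ps, if_pos rfl, sq]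
  by_cases h : α * α = 1
  · rw [if_pos h]; simp [h]
  · rw [if_neg h]; simp [h]

/-- A character that is not `1`, not the Steinberg character and not an irreducible principal
series character is orthogonal to every principal series character that is irreducible, and to the
permutation character. -/
theorem irr_cases_any {χ : SL(2, F) → ℂ} (hχ : IsIrrCharacter (SL(2, F)) χ) :
    χ = (fun _ => 1) ∨ χ = (fun g => principalSeries (1 : MulChar F ℂ) g - 1) ∨
    (∃ α : MulChar F ℂ, α ^ 2 ≠ 1 ∧ χ = principalSeries α) ∨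
    (∀ α : MulChar F ℂ, (α = 1 ∨ α ^ 2 ≠ 1) → classInner χ (principalSeries α) = 0) := by
  classical
  by_contra h
  push Not at h
  obtain ⟨h1, h2, h3, α, hα, hne⟩ := h
  rcases hα with rfl | hα
  · apply hne
    have e : principalSeries (1 : MulChar F ℂ) = (fun g => principalSeries (1 : MulChar F ℂ) g - 1) +
        (fun _ : SL(2, F) => (1 : ℂ)) := by funext g; simp
    rw [e, classInner_add_right, classInner_eq_zero_of_ne hχ steinberg_isIrr h2,
      classInner_eq_zero_of_ne hχ isIrrCharacter_one h1, add_zero]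
  · exact hne (classInner_eq_zero_of_ne hχ ((principalSeries_irr_iff α).2 hα) (h3 α hα))

theorem upS_one_eq {u : SL(2, F)} (hu : (u : M₂) = !![1, 1; 0, 1]) : u = upS 1 :=
  Subtype.ext (by rw [hu, upS_coe])

theorem upS_conj_of_square {χ : SL(2, F) → ℂ} (hχ : IsClassFunction _ χ) {x y : F} {a : Fˣ}
    (h : (a : F) ^ 2 * x = y) : χ (upS y) = χ (upS x) := by
  rw [← h, ← conj_diag_upS]
  exact hχ (upS x) (SL2.diag a)

/-- Characters of degree `q` are the Steinberg character. -/
theorem eq_steinberg {χ : SL(2, F) → ℂ} (hχ : IsIrrCharacter (SL(2, F)) χ) (hdeg : χ 1 = q) :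
    χ = fun g => principalSeries (1 : MulChar F ℂ) g - 1 := by
  classical
  have hq := Fintype.one_lt_card (α := F)
  rcases eq_or_ne (2 : F) 0 with h2 | h2
  · rcases irr_cases_any hχ with h | h | ⟨α, -, h⟩ | h
    · rw [h] at hdeg
      simp only at hdeg
      have : ((1 : ℕ) : ℂ) = ((Fintype.card F : ℕ) : ℂ) := by simpa using hdeg
      have := Nat.cast_injective this
      omega
    · exact h
    · rw [h, principalSeries_apply_one] at hdeg
      simp at hdeg
    · haveI : CharP F 2 := CharTwo.of_one_ne_zero_of_two_eq_zero one_ne_zero h2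
      have hall : ∀ α : MulChar F ℂ, classInner χ (principalSeries α) = 0 := fun α => h α (by
        by_cases hα : α = 1
        · exact Or.inl hα
        · exact Or.inr fun e => hα (CfsgLib.Correspondences.mulChar_eq_one_of_sq (by rw [← sq]; exact e)))
      have hd := CfsgLib.Correspondences.dvd_of_cuspidal hχ hall
      rw [ZerosCodegree.charDegree_eq hdeg] at hd
      have hq2 : Fintype.card F = 2 := by
        have h1 : Fintype.card F - 1 ∣ Fintype.card F - (Fintype.card F - 1) := Nat.dvd_sub hd dvd_rfl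
        rw [show Fintype.card F - (Fintype.card F - 1) = 1 by omega, Nat.dvd_one] at h1
        omega
      by_contra hne
      letI := Fintype.ofFinite (IrrCharacter (SL(2, F)))
      have hs := sum_degree_sq (G := SL(2, F))
      have hle : ({trivIrr _, ⟨_, steinberg_isIrr⟩, ⟨χ, hχ⟩} : Finset (IrrCharacter (SL(2, F)))) ⊆
          Finset.univ := Finset.subset_univ _
      have h6 : ∀ ψ : IrrCharacter (SL(2, F)), ((ψ : SL(2, F) → ℂ) 1) ^ 2 =
          ((charDegree (ψ : SL(2, F) → ℂ) ^ 2 : ℕ) : ℂ) := fun ψ => by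
        rw [Nat.cast_pow, CfsgLib.Correspondences.charDegree_cast (IsIrrCharacter.isCharacter ψ.2)]
      rw [Finset.sum_congr rfl fun ψ _ => h6 ψ, ← Nat.cast_sum, Nat.cast_inj] at hs
      have h7 := Finset.sum_le_sum_of_subset (f := fun ψ : IrrCharacter (SL(2, F)) =>
        charDegree (ψ : SL(2, F) → ℂ) ^ 2) hle
      rw [Finset.sum_insert, Finset.sum_pair, hs, SL2.card_SL, Nat.card_eq_fintype_card, hq2] at h7
      · rw [ZerosCodegree.charDegree_eq (χ := fun g => principalSeries (1 : MulChar F ℂ) g - 1)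
          (n := Fintype.card F) (by simp [principalSeries_apply_one]),
          ZerosCodegree.charDegree_eq hdeg, hq2,
          ZerosCodegree.charDegree_eq (χ := ((trivIrr (SL(2, F))) : SL(2, F) → ℂ)) (n := 1)
            (by simp [trivIrr_apply])] at h7
        norm_num at h7
      · exact fun e => hne (congrArg Subtype.val e).symm
      · simp only [Finset.mem_insert, Finset.mem_singleton, not_or]
        constructor <;> intro e
        · have := congrFun (congrArg Subtype.val e) 1
          simp only [trivIrr_apply, principalSeries_apply_one] at this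
          have h' : ((1 : ℕ) : ℂ) = ((Fintype.card F : ℕ) : ℂ) := by push_cast; linear_combination this
          have := Nat.cast_injective h'
          omega
        · have := congrFun (congrArg Subtype.val e) 1
          simp only [trivIrr_apply, hdeg] at this
          have h' : ((1 : ℕ) : ℂ) = ((Fintype.card F : ℕ) : ℂ) := by push_cast; linear_combination this
          have := Nat.cast_injective h'
          omega
  · obtain ⟨C, hT⟩ := exists_nonsplitTorus h2
    haveI := hT.finite_hom
    letI := Fintype.ofFinite (C →* ℂˣ)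
    obtain ⟨η, hη1, hηi, hηu, -⟩ := hT.exists_quadratic_char
    obtain ⟨θ₀, hθ1, hθi, hθu, -⟩ := hT.exists_quadratic_hom
    rcases hT.irr_cases hη1 hηu hηi hθ1 hθu hθi hχ with h | h | ⟨α, -, h⟩ | ⟨θ, -, h⟩ | ⟨h, -⟩ | ⟨h, -⟩
    · rw [h] at hdeg
      have : ((1 : ℕ) : ℂ) = ((Fintype.card F : ℕ) : ℂ) := by simpa using hdeg
      have := Nat.cast_injective this
      omega
    · exact h
    · rw [h, principalSeries_apply_one] at hdeg
      simp at hdeg
    · rw [h, hT.dser_one] at hdeg
      simp [sub_eq_self] at hdeg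
    · rw [hdeg] at h
      have : ((2 * Fintype.card F : ℕ) : ℂ) = ((Fintype.card F + 1 : ℕ) : ℂ) := by push_cast; exact h
      have := Nat.cast_injective this
      omega
    · rw [hdeg] at h
      have : ((2 * Fintype.card F + 1 : ℕ) : ℂ) = ((Fintype.card F : ℕ) : ℂ) := by
        push_cast; linear_combination h
      have := Nat.cast_injective this
      omega

theorem mulChar_apply_of_sq {α : MulChar F ℂ} (h : α * α = 1) {a : F} (ha : a ≠ 0) :
    α a * α a = 1 := by
  rw [← MulChar.mul_apply, h, MulChar.one_apply (isUnit_iff_ne_zero.2 ha)]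

section Odd

variable (hodd : Odd (Fintype.card F))

/-- The classification, with the facts used below. -/
theorem odd_cases (hodd : Odd (Fintype.card F)) {χ : SL(2, F) → ℂ}
    (hχ : IsIrrCharacter (SL(2, F)) χ) :
    χ 1 = 1 ∨ χ 1 = q ∨
    (χ 1 = q + 1 ∧ ∃ α : MulChar F ℂ, χ = principalSeries α) ∨
    (χ 1 = q - 1 ∧ (∀ α, classInner χ (principalSeries α) = 0) ∧
      (∀ x : F, x ≠ 0 → χ (upS x) = -1) ∧
      (Fintype.card F = 3 → ∀ g : SL(2, F),
        (∀ (c : F) (v : Fin 2 → F), v ≠ 0 → (g : M₂) *ᵥ v ≠ c • v) → χ g = 0)) ∨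
    (2 * χ 1 = q + 1 ∧ (∃ η : MulChar F ℂ, η ≠ 1 ∧ η * η = 1 ∧
        (∀ a : Fˣ, η (a : F) = if IsSquare (a : F) then 1 else -1) ∧
        classInner χ (principalSeries η) = 1 ∧
        ∀ α, α ≠ η → classInner χ (principalSeries α) = 0) ∧
      (∀ g : SL(2, F), (∀ (c : F) (v : Fin 2 → F), v ≠ 0 → (g : M₂) *ᵥ v ≠ c • v) → χ g = 0)) ∨
    (2 * χ 1 = q - 1 ∧ ∀ α, classInner χ (principalSeries α) = 0) := by
  classical
  have h2 := two_ne_zero_of_odd_card hodd
  obtain ⟨C, hT⟩ := exists_nonsplitTorus h2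
  haveI := hT.finite_hom
  letI := Fintype.ofFinite (C →* ℂˣ)
  obtain ⟨η, hη1, hηi, hηu, hηv⟩ := hT.exists_quadratic_char
  obtain ⟨θ₀, hθ1, hθi, hθu, -⟩ := hT.exists_quadratic_hom
  have hcl := IsIrrCharacter.isClassFunction hχ
  rcases hT.irr_cases hη1 hηu hηi hθ1 hθu hθi hχ with
    h | h | ⟨α, -, h⟩ | ⟨θ, hθ, h⟩ | ⟨h, hr, hr0, hd⟩ | ⟨h, -, -, hr⟩
  · exact Or.inl (by rw [h])
  · exact Or.inr (Or.inl (by rw [h]; simp [principalSeries_apply_one]))
  · exact Or.inr (Or.inr (Or.inl ⟨by rw [h, principalSeries_apply_one], α, h⟩))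
  · refine Or.inr (Or.inr (Or.inr (Or.inl ⟨by rw [h, hT.dser_one], fun α => ?_,
      fun x hx => h ▸ hT.dser_upS θ hx, fun h3 g hg => ?_⟩)))
    · rw [h, classInner_conj_symm, hT.dser_inner_ps, map_zero]
    · obtain ⟨k, hk, hkc⟩ := hT.exists_conj hg
      rw [← hcl g k, h]
      change hT.dser θ ((⟨k * g * k⁻¹, hk⟩ : C) : SL(2, F)) = 0
      rw [hT.dser_torus θ _ hkc]
      set c : C := ⟨k * g * k⁻¹, hk⟩ with hcdef
      have h4 : c ^ 4 = 1 := by
        have : Nat.card C = 4 := by rw [hT.card, h3]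
        rw [← this]; exact pow_card_eq_one'
      obtain ⟨d, hd⟩ : ∃ d : C, θ d ^ 2 ≠ 1 := by
        by_contra hall
        push Not at hall
        exact hθ (MonoidHom.ext fun d => inv_eq_of_mul_eq_one_right (by rw [← sq]; exact hall d))
      have hd4 : d ^ 4 = 1 := by
        have : Nat.card C = 4 := by rw [hT.card, h3]
        rw [← this]; exact pow_card_eq_one'
      have hneg : ∀ e : C, e ^ 4 = 1 → (e : SL(2, F)) ∉ Subgroup.center (SL(2, F)) →
          e * e = hT.negOne := by
        intro e he hec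
        have he2 : e * e ≠ 1 := fun e2 => hec ((hT.central_iff e).2 (by
          by_cases e1 : e = 1
          · exact Or.inl e1
          · exact Or.inr (Subtype.ext (eq_neg_one_of_sq_eq_one h2
              (by rw [sq]; exact congrArg Subtype.val e2) (fun e3 => e1 (Subtype.ext e3))))))
        refine Subtype.ext (eq_neg_one_of_sq_eq_one h2 ?_ (fun e3 => he2 (Subtype.ext e3)))
        have := congrArg Subtype.val he
        simpa [pow_succ, mul_assoc] using this
      have hdc : (d : SL(2, F)) ∉ Subgroup.center (SL(2, F)) := by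
        intro hdc
        rcases (hT.central_iff d).1 hdc with rfl | rfl
        · simp at hd
        · apply hd
          rw [← map_pow, sq, show hT.negOne * hT.negOne = 1 from
            Subtype.ext (by simp [NonsplitTorus.negOne]), map_one]
      have hval : (θ hT.negOne : ℂ) = -1 := (hT.theta_negOne θ).resolve_left fun e => hd (by
        rw [← map_pow, sq, hneg d hd4 hdc]
        exact Units.ext e)
      rw [← hneg c h4 hkc, map_mul, Units.val_mul] at hval
      rw [Units.val_inv_eq_inv_val]
      field_simp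
      linear_combination -hval
  · refine Or.inr (Or.inr (Or.inr (Or.inr (Or.inl ⟨h, ⟨η, hη1, ?_, hηv, hr, hr0⟩, fun g hg => ?_⟩))))
    · nth_rewrite 1 [← hηi]
      exact inv_mul_cancel η
    · obtain ⟨k, hk, hkc⟩ := hT.exists_conj hg
      rw [← hcl g k]
      change χ ((⟨k * g * k⁻¹, hk⟩ : C) : SL(2, F)) = 0
      rw [hT.elliptic_formula hcl _ hkc, Finset.sum_eq_zero fun θ _ => by rw [hd θ, mul_zero],
        neg_zero]
  · exact Or.inr (Or.inr (Or.inr (Or.inr (Or.inr ⟨h, hr⟩))))

/-- The difference of the two values of a character of half degree on unipotent elements. -/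
theorem unipotent_values (hodd : Odd (Fintype.card F)) {χ : SL(2, F) → ℂ}
    (hχ : IsIrrCharacter (SL(2, F)) χ) (s : ℂ)
    (hs : ∑ α : MulChar F ℂ, classInner χ (principalSeries α) = s)
    (hdeg : 2 * χ 1 = q + (2 * s - 1)) :
    (2 * χ (upS 1) - (2 * s - 1)) ^ 2 = (-1 : ℂ) ^ ((Fintype.card F - 1) / 2) * q := by
  classical
  have h2 := two_ne_zero_of_odd_card hodd
  obtain ⟨C, hT⟩ := exists_nonsplitTorus h2
  obtain ⟨η, hη1, hηi, -, hηv⟩ := hT.exists_quadratic_char
  have hcl := IsIrrCharacter.isClassFunction hχ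
  have hchar2 : ringChar F ≠ 2 := fun h => h2 (by
    have := ringChar.Nat.cast_ringChar (R := F)
    rw [h] at this; exact_mod_cast this)
  obtain ⟨ε, hε⟩ := FiniteField.exists_nonsquare hchar2
  have hε0 : ε ≠ 0 := fun h => hε (h ▸ IsSquare.zero)
  set v₁ := χ (upS 1)
  set v₂ := χ (upS ε)
  have hval : ∀ x : F, x ≠ 0 → χ (upS x) = (v₁ + v₂) / 2 + (v₁ - v₂) / 2 * η x := by
    intro x hx
    have hηx := hηv (Units.mk0 x hx)
    rw [Units.val_mk0] at hηx
    by_cases hsq : IsSquare x
    · obtain ⟨r, rfl⟩ := hsq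
      have hr : r ≠ 0 := fun e => hx (by rw [e, mul_zero])
      rw [hηx, if_pos ⟨r, rfl⟩, upS_conj_of_square hcl (x := 1) (a := Units.mk0 r hr)
        (by rw [Units.val_mk0, mul_one, sq])]
      ring
    · have h1 : IsSquare (x / ε) := by
        have hmul := (quadraticChar_one_iff_isSquare (div_ne_zero hx hε0)).1 (by
          rw [div_eq_mul_inv, map_mul, (quadraticChar_neg_one_iff_not_isSquare).2 hsq,
            (quadraticChar_neg_one_iff_not_isSquare).2 (by rwa [isSquare_inv])]
          norm_num)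
        exact hmul
      obtain ⟨r, hr⟩ := h1
      have hr0 : r ≠ 0 := fun e => div_ne_zero hx hε0 (by rw [hr, e, mul_zero])
      rw [hηx, if_neg hsq, upS_conj_of_square hcl (x := ε) (a := Units.mk0 r hr0)
        (by rw [Units.val_mk0, sq, ← hr, div_mul_cancel₀ x hε0])]
      ring
  have hη0 : η 0 = 0 := MulChar.map_zero η
  have hsumη : ∑ x : F, η x = 0 := MulChar.sum_eq_zero_of_ne_one hη1
  have hU := unipotent_sum hcl
  rw [hs, Finset.sum_congr rfl (g := fun x : F => (v₁ + v₂) / 2 + (v₁ - v₂) / 2 * η x +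
    (if x = 0 then χ 1 - (v₁ + v₂) / 2 else 0)) (fun x _ => by
      by_cases hx : x = 0
      · subst hx; rw [if_pos rfl, upS_zero', hη0]; ring
      · rw [if_neg hx, add_zero, hval x hx])] at hU
  simp only [Finset.sum_add_distrib, Finset.sum_const, Finset.card_univ, nsmul_eq_mul,
    ← Finset.mul_sum, hsumη, mul_zero, add_zero, Finset.sum_ite_eq', Finset.mem_univ, if_true] at hU
  have hq1 : q - 1 ≠ 0 := card_sub_one_ne_zero
  have hsum : v₁ + v₂ = 2 * s - 1 := by
    apply mul_left_cancel₀ hq1
    linear_combination 2 * hU - hdeg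
  -- the multiplicity of a non-trivial additive character on the unipotent group
  obtain ⟨ψ, hψ⟩ : ∃ ψ : AddChar F ℂ, ψ.IsPrimitive :=
    ⟨SympBound.psi F, fun a ha => SympBound.psi_prim ha⟩
  let ι : Multiplicative F →* SL(2, F) :=
    { toFun := fun x => upS (Multiplicative.toAdd x)
      map_one' := upS_zero
      map_mul' := fun x y => by
        refine Subtype.ext ?_
        change (upS (Multiplicative.toAdd x + Multiplicative.toAdd y) : SL(2, F)).1 =
          ((upS (Multiplicative.toAdd x) : SL(2, F)) * upS (Multiplicative.toAdd y)).1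
        rw [Matrix.SpecialLinearGroup.coe_mul, upS_coe, upS_coe, upS_coe]
        ext i j; fin_cases i <;> fin_cases j <;> simp [Matrix.mul_apply, add_comm] }
  letI : Fintype (Multiplicative F) := Multiplicative.fintype
  have hnat : ∀ t : F, ∃ k : ℕ, (∑ x : F, χ (upS x) * ψ (t * x)) = q * k := by
    intro t
    let μ : Multiplicative F →* ℂˣ := ((ψ.mulShift (-t)).toMonoidHom).toHomUnits
    obtain ⟨k, hk⟩ := IsCharacter.exists_classInner_eq_nat
      (CfsgLib.Coherence.isCharacter_comp (IsIrrCharacter.isCharacter hχ) ι)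
      ⟨_, isIrrCharacter_linear μ⟩
    refine ⟨k, ?_⟩
    rw [← hk, classInner, Nat.card_eq_fintype_card, Fintype.card_multiplicative, ← mul_assoc,
      mul_inv_cancel₀ (Nat.cast_ne_zero.2 Fintype.card_ne_zero), one_mul]
    refine Fintype.sum_equiv Multiplicative.ofAdd _ _ fun x => ?_
    change χ (upS x) * ψ (t * x) = χ (upS x) * (starRingEnd ℂ) (ψ.mulShift (-t) x)
    rw [AddChar.mulShift_apply, neg_mul, AddChar.map_neg_eq_conj, Complex.conj_conj]
  have hfour : ∀ t : F, t ≠ 0 → ∑ x : F, χ (upS x) * ψ (t * x) =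
      χ 1 - (v₁ + v₂) / 2 + (v₁ - v₂) / 2 * gaussSum η (ψ.mulShift t) := by
    intro t ht
    rw [Finset.sum_congr rfl (g := fun x : F => (v₁ + v₂) / 2 * ψ (t * x) +
      (v₁ - v₂) / 2 * (η x * ψ.mulShift t x) +
      (if x = 0 then χ 1 - (v₁ + v₂) / 2 else 0)) (fun x _ => by
        by_cases hx : x = 0
        · subst hx; simp [upS_zero', hη0]
        · rw [if_neg hx, add_zero, hval x hx, AddChar.mulShift_apply]; ring)]
    simp only [Finset.sum_add_distrib, ← Finset.mul_sum, Finset.sum_ite_eq', Finset.mem_univ,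
      if_true]
    have h0 : ∑ x : F, ψ (t * x) = 0 := by
      rw [← AddChar.sum_eq_zero_of_ne_one (hψ ht)]
      rfl
    rw [h0, gaussSum]
    ring
  obtain ⟨k₁, hk₁⟩ := hnat 1
  obtain ⟨k₂, hk₂⟩ := hnat ε
  rw [hfour 1 one_ne_zero, AddChar.mulShift_one] at hk₁
  rw [hfour ε hε0] at hk₂
  have hG : gaussSum η (ψ.mulShift ε) = -gaussSum η ψ := by
    have h := gaussSum_mulShift η ψ (Units.mk0 ε hε0)
    rw [Units.val_mk0] at h
    have he := hηv (Units.mk0 ε hε0)
    rw [Units.val_mk0, if_neg hε] at he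
    rw [he] at h
    linear_combination -h
  rw [hG] at hk₂
  set G := gaussSum η ψ
  have hq0 : q ≠ 0 := Nat.cast_ne_zero.2 Fintype.card_ne_zero
  have hk : ((k₁ + k₂ : ℕ) : ℂ) = ((1 : ℕ) : ℂ) := by
    apply mul_left_cancel₀ hq0
    push_cast
    linear_combination -hk₁ - hk₂ + hdeg - hsum
  have hk' : k₁ + k₂ = 1 := Nat.cast_injective hk
  have hsq : ((v₁ - v₂) * G) ^ 2 = q ^ 2 := by
    rcases Nat.eq_zero_or_pos k₁ with h | h
    · rw [h, Nat.cast_zero, mul_zero] at hk₁
      rw [show k₂ = 1 by omega, Nat.cast_one, mul_one] at hk₂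
      linear_combination ((v₁ - v₂) * G - q) * (hk₁ - hk₂)
    · rw [show k₂ = 0 by omega, Nat.cast_zero, mul_zero] at hk₂
      rw [show k₁ = 1 by omega, Nat.cast_one, mul_one] at hk₁
      linear_combination ((v₁ - v₂) * G + q) * (hk₁ - hk₂)
  have hquad : η.IsQuadratic := fun a => by
    rcases eq_or_ne a 0 with rfl | ha
    · exact Or.inl hη0
    · have := hηv (Units.mk0 a ha)
      rw [Units.val_mk0] at this
      rw [this]
      split_ifs
      · exact Or.inr (Or.inl rfl)
      · exact Or.inr (Or.inr rfl)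
  have hneg : η (-1) = (-1 : ℂ) ^ ((Fintype.card F - 1) / 2) := by
    have h := hηv (-1)
    rw [Units.val_neg, Units.val_one] at h
    rw [h]
    obtain ⟨m, hm⟩ := hodd
    rw [show (Fintype.card F - 1) / 2 = m by omega]
    rcases Nat.even_or_odd m with hev | hod
    · rw [hev.neg_one_pow, if_pos]
      rw [FiniteField.isSquare_neg_one_iff]
      obtain ⟨r, hr⟩ := hev
      omega
    · rw [hod.neg_one_pow, if_neg]
      rw [FiniteField.isSquare_neg_one_iff]
      obtain ⟨r, hr⟩ := hod
      omega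
  have hG2 : G ^ 2 = η (-1) * q := gaussSum_sq hη1 hquad hψ
  rw [show 2 * v₁ - (2 * s - 1) = v₁ - v₂ by linear_combination hsum, ← hneg]
  have hη2 : η (-1) * η (-1) = 1 := by
    rw [hneg, ← mul_pow]; norm_num
  rw [mul_pow, hG2] at hsq
  apply mul_right_cancel₀ (mul_ne_zero (left_ne_zero_of_mul_eq_one hη2) hq0)
  linear_combination hsq - q ^ 2 * hη2

end Odd

end CfsgLib.InvCentralizers.SL2Tables
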