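import Cfsg.Agent.Lib.InvCentralizers.SL2Tables

/-!
The number of irreducible characters of each degree of `SL₂(q)`, `q` even.
-/

set_option autoImplicit false
set_option linter.unusedSectionVars false
set_option linter.style.haveILetI false
set_option linter.unusedSimpArgs false

namespace CfsgLib.InvCentralizers.SL2Even

open Cfsg CfsgLib.SL2 CfsgLib.CharDegrees CfsgLib.CharTheory CfsgLib.Correspondences
open CfsgLib.ClassicalLinear (upS upS_coe)
open Matrix
open scoped MatrixGroups

variable {F : Type*} [Field F] [Fintype F] [DecidableEq F] [CharP F 2]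

set_option maxHeartbeats 800000 in
/-- The partition of the irreducible characters by degree. -/
theorem partition : ∃ (one st : IrrCharacter (SL(2, F))) (A D : Finset (IrrCharacter (SL(2, F)))),
    charDegree (one : SL(2, F) → ℂ) = 1 ∧ charDegree (st : SL(2, F) → ℂ) = Fintype.card F ∧
    2 * A.card + 2 = Fintype.card F ∧ 2 * D.card = Fintype.card F ∧
    (∀ χ ∈ A, charDegree (χ : SL(2, F) → ℂ) = Fintype.card F + 1) ∧
    (∀ χ ∈ D, charDegree (χ : SL(2, F) → ℂ) = Fintype.card F - 1) ∧
    (∀ χ, χ = one ∨ χ = st ∨ χ ∈ A ∨ χ ∈ D) ∧ one ∉ A ∧ one ∉ D ∧ st ∉ A ∧ st ∉ D ∧ one ≠ st ∧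
    Disjoint A D ∧ Nat.card (ConjClasses (SL(2, F))) = Fintype.card F + 1 := by
  have hq2 : 2 ≤ Fintype.card F := Fintype.one_lt_card
  classical
  haveI := Fintype.ofFinite (IrrCharacter (SL(2, F)))
  set q := Fintype.card F with hq
  let one : IrrCharacter (SL(2, F)) := trivIrr _
  let st : IrrCharacter (SL(2, F)) := ⟨_, steinberg_irr⟩
  let P : MulChar F ℂ → IrrCharacter (SL(2, F)) :=
    fun α => if h : α = 1 then one else ⟨_, principalSeries_irr h⟩
  have hPcoe : ∀ α : MulChar F ℂ, α ≠ 1 → ((P α : IrrCharacter _) : SL(2, F) → ℂ) = principalSeries α := by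
    intro α h
    simp [P, h]
  let A : Finset (IrrCharacter (SL(2, F))) := (Finset.univ.erase (1 : MulChar F ℂ)).image P
  have hdegA : ∀ χ ∈ A, charDegree (χ : SL(2, F) → ℂ) = q + 1 := by
    intro χ hχ
    obtain ⟨α, hα, rfl⟩ := Finset.mem_image.1 hχ
    rw [hPcoe α (Finset.ne_of_mem_erase hα), charDegree, principalSeries_apply_one,
      show (Fintype.card F : ℂ) + 1 = ((q + 1 : ℕ) : ℂ) by push_cast [hq]; rfl, Complex.natCast_re,
      Nat.floor_natCast]
  have hdeg1 : charDegree (one : SL(2, F) → ℂ) = 1 := by simp [charDegree, one, trivIrr_apply]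
  have hdegst : charDegree (st : SL(2, F) → ℂ) = q := by
    simp [charDegree, st, steinberg_apply_one, ← hq]
  have h1A : one ∉ A := fun h => by have := hdegA _ h; omega
  have hsA : st ∉ A := fun h => by have := hdegA _ h; omega
  have h1s : one ≠ st := fun h => by rw [h] at hdeg1; omega
  -- the number of principal series characters
  have hfib : ∀ α : MulChar F ℂ, α ≠ 1 →
      (Finset.univ.erase (1 : MulChar F ℂ)).filter (fun β => P β = P α) = {α, α⁻¹} := by
    intro α hα
    have hα' : α⁻¹ ≠ 1 := inv_ne_one.2 hα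
    ext β
    simp only [Finset.mem_filter, Finset.mem_erase, Finset.mem_univ, and_true, Finset.mem_insert,
      Finset.mem_singleton]
    constructor
    · rintro ⟨hβ, h⟩
      have h' : principalSeries β = principalSeries α := by rw [← hPcoe β hβ, ← hPcoe α hα, h]
      by_contra hne
      push Not at hne
      have hi := classInner_ps_ps β α
      rw [if_neg hne.1, if_neg (fun e => hne.2 (eq_inv_of_mul_eq_one_left e)), h', ← hPcoe α hα,
        classInner_self_of_isIrr (P α).2] at hi
      norm_num at hi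
    · rintro (rfl | rfl)
      · exact ⟨hα, rfl⟩
      · refine ⟨hα', Subtype.ext ?_⟩
        rw [hPcoe _ hα', hPcoe _ hα, principalSeries_inv]
  have hcardA : 2 * A.card = q - 2 := by
    have h := Finset.card_eq_sum_card_image P (Finset.univ.erase (1 : MulChar F ℂ))
    rw [Finset.card_erase_of_mem (Finset.mem_univ _), Finset.card_univ, card_mulChar] at h
    rw [Finset.sum_congr rfl (g := fun _ => 2) ?_, Finset.sum_const, smul_eq_mul] at h
    · change _ = A.card * 2 at h
      omega
    · intro χ hχ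
      obtain ⟨α, hα, rfl⟩ := Finset.mem_image.1 hχ
      have hα1 := Finset.ne_of_mem_erase hα
      rw [hfib α hα1, Finset.card_pair]
      intro h
      exact hα1 (mulChar_eq_one_of_sq (by nth_rewrite 2 [h]; exact mul_inv_cancel α))
  -- the remaining characters
  let D : Finset (IrrCharacter (SL(2, F))) := Finset.univ \ insert one (insert st A)
  have hdvdD : ∀ χ ∈ D, q - 1 ∣ charDegree (χ : SL(2, F) → ℂ) := by
    intro χ hχ
    simp only [D, Finset.mem_sdiff, Finset.mem_univ, true_and, Finset.mem_insert, not_or] at hχ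
    refine dvd_of_cuspidal χ.2 fun α => ?_
    by_cases hα : α = 1
    · subst hα
      have hps : principalSeries (1 : MulChar F ℂ) = (st : SL(2, F) → ℂ) + (one : SL(2, F) → ℂ) := by
        funext g
        simp [st, one, steinberg, trivIrr_apply]
      rw [hps, classInner_add_right, classInner_irrCharacter, classInner_irrCharacter,
        if_neg hχ.2.1, if_neg hχ.1, add_zero]
    · rw [← hPcoe α hα, classInner_irrCharacter, if_neg]
      exact fun h => hχ.2.2 (Finset.mem_image.2 ⟨α, Finset.mem_erase.2 ⟨hα, Finset.mem_univ _⟩, h.symm⟩)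
  have hins : Disjoint D (insert one (insert st A)) := Finset.sdiff_disjoint
  have huniv : D ∪ insert one (insert st A) = Finset.univ :=
    Finset.sdiff_union_of_subset (Finset.subset_univ _)
  have hnum : q + 1 ≤ D.card + (A.card + 2) := by
    have h := Finset.card_union_of_disjoint hins
    rw [huniv, Finset.card_univ, Finset.card_insert_of_notMem (by simp [h1s, h1A]),
      Finset.card_insert_of_notMem hsA, ← Nat.card_eq_fintype_card, card_irrCharacter] at h
    have := card_add_one_le_classes (F := F)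
    omega
  have hsumsq : ∑ χ ∈ D, (charDegree (χ : SL(2, F) → ℂ)) ^ 2 +
      (A.card * (q + 1) ^ 2 + q ^ 2 + 1) = q * (q ^ 2 - 1) := by
    have h := sum_degree_sq (G := SL(2, F))
    rw [Finset.sum_congr rfl (fun χ _ => by
      rw [← charDegree_cast (IsIrrCharacter.isCharacter χ.2), ← Nat.cast_pow]), ← Nat.cast_sum,
      Nat.cast_inj, ← huniv, Finset.sum_union hins, Finset.sum_insert (by simp [h1s, h1A]),
      Finset.sum_insert hsA, hdeg1, hdegst, Finset.sum_congr (s₁ := A) rfl (g := fun _ => (q + 1) ^ 2) (fun χ hχ => by rw [hdegA χ hχ]),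
      Finset.sum_const, smul_eq_mul, SL2.card_SL, Nat.card_eq_fintype_card, ← hq] at h
    omega
  have hb : ∀ χ ∈ D, 1 ≤ charDegree (χ : SL(2, F) → ℂ) / (q - 1) := fun χ hχ =>
    Nat.div_pos (Nat.le_of_dvd (charDegree_pos χ.2) (hdvdD χ hχ)) (by omega)
  set S := ∑ χ ∈ D, (charDegree (χ : SL(2, F) → ℂ) / (q - 1)) ^ 2 with hS
  have hDsum : ∑ χ ∈ D, (charDegree (χ : SL(2, F) → ℂ)) ^ 2 = (q - 1) ^ 2 * S := by
    rw [hS, Finset.mul_sum]
    refine Finset.sum_congr rfl fun χ hχ => ?_
    rw [← mul_pow, Nat.mul_div_cancel' (hdvdD χ hχ)]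
  rw [hDsum] at hsumsq
  have h2S : 2 * S = q := by
    have e1 : (2 * A.card : ℤ) = (q : ℤ) - 2 := by omega
    have e2 : ((q - 1 : ℕ) : ℤ) = (q : ℤ) - 1 := by omega
    have e3 : ((q ^ 2 - 1 : ℕ) : ℤ) = (q : ℤ) ^ 2 - 1 := by
      rw [Nat.cast_sub (Nat.one_le_pow _ _ (by omega))]
      simp
    have e := congrArg (fun n : ℕ => (n : ℤ)) hsumsq
    simp only [Nat.cast_add, Nat.cast_mul, Nat.cast_pow, Nat.cast_one, e2, e3] at e
    have hz : ((q : ℤ) - 1) ^ 2 * (2 * (S : ℤ) - q) = 0 := by
      linear_combination 2 * e - ((q : ℤ) + 1) ^ 2 * e1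
    rcases mul_eq_zero.1 hz with h | h
    · have : ((q : ℤ) - 1) = 0 := (pow_eq_zero_iff two_ne_zero).1 h
      omega
    · omega
  have hcardD : D.card ≤ S := by
    rw [Finset.card_eq_sum_ones, hS]
    exact Finset.sum_le_sum fun χ hχ => Nat.one_le_pow _ _ (hb χ hχ)
  have hdegD : ∀ χ ∈ D, charDegree (χ : SL(2, F) → ℂ) = q - 1 := by
    intro χ hχ
    have hle : ∀ ψ ∈ D, 1 ≤ (charDegree (ψ : SL(2, F) → ℂ) / (q - 1)) ^ 2 :=
      fun ψ hψ => Nat.one_le_pow _ _ (hb ψ hψ)
    have heq : ∑ ψ ∈ D, 1 = ∑ ψ ∈ D, (charDegree (ψ : SL(2, F) → ℂ) / (q - 1)) ^ 2 := by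
      rw [← Finset.card_eq_sum_ones, ← hS]
      omega
    have h := (Finset.sum_eq_sum_iff_of_le hle).1 heq χ hχ
    have h1 : charDegree (χ : SL(2, F) → ℂ) / (q - 1) = 1 :=
      (pow_eq_one_iff.1 h.symm).resolve_right two_ne_zero
    have := Nat.mul_div_cancel' (hdvdD χ hχ)
    rw [h1, mul_one] at this
    exact this.symm
  have hmemD : ∀ χ ∈ D, χ ≠ one ∧ χ ≠ st ∧ χ ∉ A := by
    intro χ hχ
    simpa [D] using hχ
  have hcov : ∀ χ, χ = one ∨ χ = st ∨ χ ∈ A ∨ χ ∈ D := by
    intro χ
    have : χ ∈ D ∪ insert one (insert st A) := huniv ▸ Finset.mem_univ χ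
    simp only [Finset.mem_union, Finset.mem_insert] at this
    tauto
  have hA2 : A.card + 2 = (insert one (insert st A)).card := by
    rw [Finset.card_insert_of_notMem (by simp [h1s, h1A]), Finset.card_insert_of_notMem hsA]
  have hcl : Nat.card (ConjClasses (SL(2, F))) = D.card + (A.card + 2) := by
    rw [← card_irrCharacter, Nat.card_eq_fintype_card, ← Finset.card_univ, ← huniv,
      Finset.card_union_of_disjoint hins, hA2]
  have hev : 2 ∣ q := ⟨S, h2S.symm⟩
  refine ⟨one, st, A, D, hdeg1, hdegst, ?_, ?_, hdegA, hdegD, hcov, h1A,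
    fun h => (hmemD _ h).1 rfl, hsA, fun h => (hmemD _ h).2.1 rfl, h1s, ?_, ?_⟩
  · omega
  · omega
  · rw [Finset.disjoint_left]
    exact fun χ hA hD => (hmemD χ hD).2.2 hA
  · omega

theorem degree_eq {χ : SL(2, F) → ℂ} (hχ : IsIrrCharacter (SL(2, F)) χ) {n : ℕ}
    (h : charDegree χ = n) : χ 1 = (n : ℂ) := by
  rw [← h, charDegree_cast (IsIrrCharacter.isCharacter hχ)]

end CfsgLib.InvCentralizers.SL2Even
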