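import Mathlib
import Cfsg.Agent.Lib.CoprimeAction.Basic
import Cfsg.Agent.Lib.CoprimeAction.Sylow

/-!
A coprime `p`-group, `p` odd, with two generating sets `C`, `D` such that the group acted on is
`C(d) C(c)` for all `c ∈ C` and `d ∈ D`, acts trivially.
-/

set_option autoImplicit false
set_option linter.unusedSectionVars false
set_option linter.style.haveILetI false

namespace CfsgLib.InvCentralizers.CentralizerProduct

section Abelian

variable {J A : Type*} [Group J] [CommGroup A] [MulDistribMulAction J A]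

/-- Eigenvectors for distinct powers of a fixed point free element are independent. -/
theorem eq_one_of_prod_eq_one (c z : J) (hz : ∀ a : A, c • z • a = z • c • a) :
    ∀ n : ℕ, (∀ i, 0 < i → i < n → ∀ a : A, z ^ i • a = a → a = 1) →
      ∀ w : ℕ → A, (∀ j, j < n → c • w j = z ^ j • w j) → ∏ j ∈ Finset.range n, w j = 1 →
        ∀ j, j < n → w j = 1 := by
  have hzi : ∀ (i : ℕ) (a : A), c • z ^ i • a = z ^ i • c • a := by
    intro i
    induction i with
    | zero => simp
    | succ i ih => intro a; rw [pow_succ, mul_smul, mul_smul, ih, hz]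
  intro n
  induction n with
  | zero => simp
  | succ n ih =>
    intro hfree w hw hprod
    rw [Finset.prod_range_succ] at hprod
    have hlow : ∀ j, j < n → w j = 1 := by
      intro j hj
      have hd : ∏ i ∈ Finset.range n, (z ^ i • w i / z ^ n • w i) = 1 := by
        rw [Finset.prod_div_distrib, div_eq_one, ← Finset.smul_prod']
        have e : c • (∏ i ∈ Finset.range n, w i) = ∏ i ∈ Finset.range n, z ^ i • w i := by
          rw [Finset.smul_prod']
          exact Finset.prod_congr rfl fun i hi => hw i (by simp only [Finset.mem_range] at hi; omega)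
        rw [← e, eq_inv_of_mul_eq_one_left hprod, smul_inv', smul_inv', hw n (by omega)]
      have h1 := ih (fun i h0 h1 => hfree i h0 (by omega)) (fun i => z ^ i • w i / z ^ n • w i)
        (fun i hi => by
          simp only [smul_div', hzi]
          rw [hw i (by omega), ← mul_smul, ← mul_smul, ← mul_smul, ← pow_add, ← pow_add, ← pow_add,
            add_comm n i]) hd j hj
      rw [div_eq_one] at h1
      refine hfree (n - j) (by omega) (by omega) _ (MulAction.injective (z ^ j) ?_)
      simp only [← mul_smul, ← pow_add]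
      rw [show j + (n - j) = n by omega, h1]
    intro j hj
    rcases Nat.lt_or_ge j n with h | h
    · exact hlow j h
    · obtain rfl : j = n := by omega
      rwa [Finset.prod_eq_one (fun i hi => hlow i (Finset.mem_range.1 hi)), one_mul] at hprod

/-- A subgroup stable under the action. -/
@[reducible] def restrict (B : Subgroup A) (hB : ∀ (j : J), ∀ a ∈ B, j • a ∈ B) :
    MulDistribMulAction J B where
  smul j b := ⟨j • b.1, hB j b.1 b.2⟩
  one_smul b := Subtype.ext (one_smul J b.1)
  mul_smul i j b := Subtype.ext (mul_smul i j b.1)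
  smul_mul j a b := Subtype.ext (smul_mul' j a.1 b.1)
  smul_one j := Subtype.ext (smul_one j)

/-- The bound on the fixed points. -/
theorem card_fixed_pow_le [Finite A] {p : ℕ} (c g z : J) (hg : ∀ a : A, c • g • a = g • c • z • a)
    (hcz : ∀ a : A, c • z • a = z • c • a) (hgz : ∀ a : A, g • z • a = z • g • a)
    (hfree : ∀ i, 0 < i → i < p → ∀ a : A, z ^ i • a = a → a = 1) :
    Nat.card {a : A // c • a = a} ^ p ≤ Nat.card A := by
  have hgzi : ∀ (i : ℕ) (a : A), g • z ^ i • a = z ^ i • g • a := by
    intro i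
    induction i with
    | zero => simp
    | succ i ih => intro a; rw [pow_succ, mul_smul, mul_smul, ih, hgz]
  have heig : ∀ (j : ℕ) (a : A), c • a = a → c • g ^ j • a = z ^ j • g ^ j • a := by
    intro j
    induction j with
    | zero => intro a ha; simp [ha]
    | succ j ih =>
      intro a ha
      rw [pow_succ' g, mul_smul, hg, hcz, ih a ha, ← mul_smul z, ← pow_succ', hgzi]
  let Φ : (Fin p → {a : A // c • a = a}) → A := fun f => ∏ j : Fin p, g ^ (j : ℕ) • (f j).1
  have hΦ : Function.Injective Φ := by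
    intro f f' h
    let u : ℕ → A := fun j => if hj : j < p then (f ⟨j, hj⟩).1 / (f' ⟨j, hj⟩).1 else 1
    have hu : ∀ j, c • u j = u j := by
      intro j
      simp only [u]
      split_ifs with hj
      · rw [smul_div', (f _).2, (f' _).2]
      · exact smul_one c
    have h0 : ∏ j ∈ Finset.range p, g ^ j • u j = 1 := by
      rw [← Fin.prod_univ_eq_prod_range (fun j => g ^ j • u j) p]
      simp only [u, Fin.is_lt, dite_true, Fin.eta, smul_div', Finset.prod_div_distrib]
      exact div_eq_one.2 h
    have h1 := eq_one_of_prod_eq_one c z hcz p hfree (fun j => g ^ j • u j)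
      (fun j _ => heig j _ (hu j)) h0
    funext j
    have h2 := h1 j j.2
    simp only [u, Fin.is_lt, dite_true, Fin.eta, smul_eq_iff_eq_inv_smul, smul_one, div_eq_one] at h2
    exact Subtype.ext h2
  have := Nat.card_le_card_of_injective Φ hΦ
  rwa [Nat.card_fun, Nat.card_fin] at this

theorem abelian_aux {p : ℕ} (hp : p.Prime) (hp3 : 3 ≤ p) (hJ : IsPGroup p J) (C D : Set J)
    (hC : Subgroup.closure C = ⊤) (hD : Subgroup.closure D = ⊤) :
    ∀ (n : ℕ) (A : Type*) [CommGroup A] [MulDistribMulAction J A] [Finite A], Nat.card A = n →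
      (Nat.card A).Coprime p →
      (∀ c ∈ C, ∀ d ∈ D, ∀ a : A, ∃ x y : A, c • x = x ∧ d • y = y ∧ a = x * y) →
      ∀ (j : J) (a : A), j • a = a := by
  intro n
  induction n using Nat.strong_induction_on with
  | _ n ih =>
  intro A _ _ _ hn hcop h
  by_contra hne
  push Not at hne
  haveI : Fact p.Prime := ⟨hp⟩
  -- nontrivial central elements have no fixed points
  have hfpf : ∀ t : J, (∀ (b : J) (a : A), b • t • a = t • b • a) → (∃ a : A, t • a ≠ a) →
      ∀ a : A, t • a = a → a = 1 := by
    intro t ht ⟨a₁, ha₁⟩ a₀ ha₀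
    by_contra ha1
    obtain ⟨k, hk⟩ := hJ t
    have hkc : (Nat.card A).Coprime (p ^ k) := hcop.pow_right k
    have hti : ∀ (i : ℕ) (b : J) (a : A), b • t ^ i • a = t ^ i • b • a := by
      intro i
      induction i with
      | zero => simp
      | succ i hi => intro b a; rw [pow_succ, mul_smul, mul_smul, hi, ht]
    let e : A →* A :=
      { toFun := fun a => ∏ i ∈ Finset.range (p ^ k), t ^ i • a
        map_one' := by simp
        map_mul' := fun a b => by simp [smul_mul', Finset.prod_mul_distrib] }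
    have he : ∀ (b : J) (a : A), e (b • a) = b • e a := by
      intro b a
      simp only [e, MonoidHom.coe_mk, OneHom.coe_mk, Finset.smul_prod']
      exact Finset.prod_congr rfl fun i _ => (hti i b a).symm
    have hefix : ∀ a, t • e a = e a := by
      intro a
      simp only [e, MonoidHom.coe_mk, OneHom.coe_mk, Finset.smul_prod', ← mul_smul, ← pow_succ']
      have h1 := Finset.prod_range_succ (fun i => t ^ i • a) (p ^ k)
      rw [Finset.prod_range_succ', hk, pow_zero, mul_left_inj] at h1
      exact h1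
    have hepow : ∀ a, t • a = a → e a = a ^ (p ^ k) := by
      intro a ha
      have hti' : ∀ i : ℕ, t ^ i • a = a := by
        intro i
        induction i with
        | zero => simp
        | succ i hi => rw [pow_succ, mul_smul, ha, hi]
      simp [e, hti']
    let B₁ : Subgroup A :=
      { carrier := {a | t • a = a}
        one_mem' := smul_one t
        mul_mem' := fun {a b} ha hb => by
          simp only [Set.mem_setOf_eq] at ha hb ⊢; rw [smul_mul', ha, hb]
        inv_mem' := fun {a} ha => by
          simp only [Set.mem_setOf_eq] at ha ⊢; rw [smul_inv', ha] }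
    have hB₁ : ∀ (j : J), ∀ a ∈ B₁, j • a ∈ B₁ := fun j a ha => by
      change t • j • a = j • a
      rw [← ht, show t • a = a from ha]
    have hB₂ : ∀ (j : J), ∀ a ∈ e.ker, j • a ∈ e.ker := fun j a ha => by
      rw [MonoidHom.mem_ker] at ha ⊢
      rw [he, ha, smul_one]
    have key : ∀ (B : Subgroup A) (hB : ∀ (j : J), ∀ a ∈ B, j • a ∈ B), B ≠ ⊤ →
        (∀ f : A →* A, (∀ (b : J) (a : A), f (b • a) = b • f a) → (∀ a, f a ∈ B) →
          (∀ b ∈ B, f b = b ^ (p ^ k)) → ∀ (j : J), ∀ b ∈ B, j • b = b) := by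
      intro B hB htop f hf hfB hfpow j b hb
      letI := restrict B hB
      have hlt : Nat.card B < n := hn ▸ lt_of_le_of_ne (Subgroup.card_le_card_group B)
        fun e => htop (Subgroup.eq_top_of_card_eq B e)
      refine congrArg Subtype.val (ih _ hlt B rfl
        (hcop.coprime_dvd_left (Subgroup.card_subgroup_dvd_card B)) ?_ j ⟨b, hb⟩)
      intro c hc d hd b'
      obtain ⟨b₀, hb₀⟩ := (powCoprime (G := B) (n := p ^ k)
        (hkc.coprime_dvd_left (Subgroup.card_subgroup_dvd_card B))).surjective b'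
      obtain ⟨x, y, hx, hy, hxy⟩ := h c hc d hd b₀.1
      refine ⟨⟨f x, hfB x⟩, ⟨f y, hfB y⟩, Subtype.ext ?_, Subtype.ext ?_, Subtype.ext ?_⟩
      · change c • f x = f x
        rw [← hf, hx]
      · change d • f y = f y
        rw [← hf, hy]
      · rw [← hb₀]
        change (b₀ : A) ^ (p ^ k) = f x * f y
        rw [← map_mul, ← hxy, hfpow _ b₀.2]
    have h₁ : ∀ (j : J), ∀ b ∈ B₁, j • b = b :=
      key B₁ hB₁ (fun htop => ha₁ (htop.ge (Subgroup.mem_top a₁))) e he hefix hepow
    have h₂ : ∀ (j : J), ∀ b ∈ e.ker, j • b = b := by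
      let f : A →* A := powMonoidHom (p ^ k) / e
      refine key e.ker hB₂ (fun htop => ha1 ?_) f (fun b a => ?_) (fun a => ?_) (fun b hb => ?_)
      · have h0 : e a₀ = 1 := htop.ge (Subgroup.mem_top a₀)
        rw [hepow a₀ ha₀] at h0
        exact (powCoprime hkc).injective (by simpa [powCoprime] using h0)
      · simp only [f, MonoidHom.div_apply, powMonoidHom_apply, smul_div', smul_pow', he]
      · rw [MonoidHom.mem_ker]
        simp only [f, MonoidHom.div_apply, powMonoidHom_apply, map_div, map_pow,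
          hepow _ (hefix a), div_self']
      · simp only [f, MonoidHom.div_apply, powMonoidHom_apply, MonoidHom.mem_ker.1 hb, div_one]
    obtain ⟨j, a, hja⟩ := hne
    apply hja
    apply (powCoprime hkc).injective
    simp only [powCoprime, Equiv.coe_fn_mk, ← smul_pow']
    have hb : a ^ (p ^ k) / e a ∈ e.ker := by
      rw [MonoidHom.mem_ker, map_div, map_pow, hepow _ (hefix a), div_self']
    have hsplit : a ^ (p ^ k) = e a * (a ^ (p ^ k) / e a) := by rw [mul_div_cancel]
    rw [hsplit, smul_mul', h₁ j _ (hefix a), h₂ j _ hb]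
  let φ : J →* MulAut A := MulDistribMulAction.toMulAut J A
  have hφ : ∀ (j : J) (a : A), φ j a = j • a := fun _ _ => rfl
  haveI : Finite (MulAut A) := Finite.of_injective (fun f => (f : A → A)) DFunLike.coe_injective
  let I : Subgroup (MulAut A) := φ.range
  have hI : IsPGroup p I := hJ.of_surjective φ.rangeRestrict φ.rangeRestrict_surjective
  obtain ⟨j₀, a₀, hja⟩ := hne
  have hntA : 1 < Nat.card A := Finite.one_lt_card_iff_nontrivial.2 ⟨j₀ • a₀, a₀, hja⟩
  have hmove : ∀ S : Set J, Subgroup.closure S = ⊤ → ∀ x : I, x ∉ Subgroup.center I →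
      ∃ c ∈ S, φ.rangeRestrict c * x ≠ x * φ.rangeRestrict c := by
    intro S hS x hx
    by_contra hall
    push Not at hall
    refine hx (Subgroup.mem_center_iff.2 fun y => ?_)
    obtain ⟨j, rfl⟩ := φ.rangeRestrict_surjective y
    have hj : j ∈ (Subgroup.centralizer ({x} : Set I)).comap φ.rangeRestrict := by
      have : (⊤ : Subgroup J) ≤ (Subgroup.centralizer ({x} : Set I)).comap φ.rangeRestrict := by
        rw [← hS, Subgroup.closure_le]
        intro c hc
        rw [SetLike.mem_coe, Subgroup.mem_comap, Subgroup.mem_centralizer_singleton_iff]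
        exact hall c hc
      exact this (Subgroup.mem_top j)
    rw [Subgroup.mem_comap, Subgroup.mem_centralizer_singleton_iff] at hj
    exact hj
  by_cases hab : ∀ x : I, x ∈ Subgroup.center I
  · have hfix : ∀ S : Set J, Subgroup.closure S = ⊤ → ∃ c ∈ S, ∀ a : A, c • a = a → a = 1 := by
      intro S hS
      by_cases hall : ∀ c ∈ S, ∀ a : A, c • a = a
      · have : (⊤ : Subgroup J) ≤ φ.ker := by
          rw [← hS, Subgroup.closure_le]
          intro c hc
          exact MulEquiv.ext fun a => hall c hc a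
        exact absurd (DFunLike.congr_fun (MonoidHom.mem_ker.1 (this (Subgroup.mem_top j₀))) a₀) hja
      · push Not at hall
        obtain ⟨c, hc, a, ha⟩ := hall
        refine ⟨c, hc, hfpf c (fun b a => ?_) ⟨a, ha⟩⟩
        have := Subgroup.mem_center_iff.1 (hab (φ.rangeRestrict c)) (φ.rangeRestrict b)
        exact DFunLike.congr_fun (congrArg Subtype.val this) a
    obtain ⟨c, hc, hcf⟩ := hfix C hC
    obtain ⟨d, hd, hdf⟩ := hfix D hD
    obtain ⟨x, y, hx, hy, hxy⟩ := h c hc d hd (j₀ • a₀ / a₀)
    rw [hcf x hx, hdf y hy, one_mul, div_eq_one] at hxy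
    exact hja hxy
  push Not at hab
  obtain ⟨x₀, hx₀⟩ := hab
  haveI : Nontrivial (I ⧸ Subgroup.center I) :=
    ⟨(x₀ : I ⧸ Subgroup.center I), 1, fun e => hx₀ ((QuotientGroup.eq_one_iff x₀).1 e)⟩
  haveI := (hI.to_quotient (Subgroup.center I)).center_nontrivial
  obtain ⟨⟨q₀, hq₀⟩, hq1⟩ := exists_ne (1 : Subgroup.center (I ⧸ Subgroup.center I))
  obtain ⟨g₀, rfl⟩ := QuotientGroup.mk_surjective q₀
  have hg₀ : g₀ ∉ Subgroup.center I := fun hm =>
    hq1 (Subtype.ext ((QuotientGroup.eq_one_iff g₀).2 hm))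
  obtain ⟨g, rfl⟩ := φ.rangeRestrict_surjective g₀
  have hbound : ∀ S : Set J, Subgroup.closure S = ⊤ →
      ∃ c ∈ S, Nat.card {a : A // c • a = a} ^ p ≤ Nat.card A := by
    intro S hS
    obtain ⟨c, hc, hcg⟩ := hmove S hS _ hg₀
    refine ⟨c, hc, ?_⟩
    set z : J := c⁻¹ * g⁻¹ * c * g with hzdef
    have hzc : φ.rangeRestrict z ∈ Subgroup.center I := by
      rw [← QuotientGroup.eq_one_iff, hzdef]
      simp only [map_mul, map_inv, QuotientGroup.mk_mul, QuotientGroup.mk_inv]
      have := Subgroup.mem_center_iff.1 hq₀ (φ.rangeRestrict c : I ⧸ Subgroup.center I)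
      rw [mul_assoc _ _ (QuotientGroup.mk (φ.rangeRestrict g)), this]
      group
    have hzcomm : ∀ (b : J) (a : A), b • z • a = z • b • a := fun b a =>
      DFunLike.congr_fun (congrArg Subtype.val
        (Subgroup.mem_center_iff.1 hzc (φ.rangeRestrict b))) a
    refine card_fixed_pow_le c g z (fun a => ?_) (hzcomm c) (hzcomm g) ?_
    · rw [← mul_smul, ← mul_smul, ← mul_smul, hzdef]
      congr 1
      group
    intro i hi0 hip
    have hzi : ∀ (b : J) (a : A), b • z ^ i • a = z ^ i • b • a := fun b a => by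
      have := Subgroup.mem_center_iff.1 (pow_mem hzc i) (φ.rangeRestrict b)
      rw [← map_pow] at this
      exact DFunLike.congr_fun (congrArg Subtype.val this) a
    refine hfpf (z ^ i) hzi ?_
    by_contra hall
    push Not at hall
    have h1 : φ.rangeRestrict z ^ i = 1 := by
      rw [← map_pow]
      exact Subtype.ext (MulEquiv.ext hall)
    obtain ⟨k, hk⟩ := hI (φ.rangeRestrict z)
    have hco : Nat.gcd (p ^ k) i = 1 := Nat.Coprime.pow_left k
      (hp.coprime_iff_not_dvd.2 fun hdvd => absurd (Nat.le_of_dvd hi0 hdvd) (by omega))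
    have h2 := pow_gcd_eq_one.2 ⟨hk, h1⟩
    rw [hco, pow_one, hzdef] at h2
    apply hcg
    simp only [map_mul, map_inv] at h2
    calc φ.rangeRestrict c * φ.rangeRestrict g
        = φ.rangeRestrict g * φ.rangeRestrict c *
          ((φ.rangeRestrict c)⁻¹ * (φ.rangeRestrict g)⁻¹ * φ.rangeRestrict c * φ.rangeRestrict g) :=
          by group
      _ = _ := by rw [h2, mul_one]
  obtain ⟨c, hc, hcb⟩ := hbound C hC
  obtain ⟨d, hd, hdb⟩ := hbound D hD
  have hle : Nat.card A ≤ Nat.card {a : A // c • a = a} * Nat.card {a : A // d • a = a} := by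
    rw [← Nat.card_prod]
    refine Nat.card_le_card_of_surjective (fun u => u.1.1 * u.2.1) fun a => ?_
    obtain ⟨x, y, hx, hy, rfl⟩ := h c hc d hd a
    exact ⟨(⟨x, hx⟩, ⟨y, hy⟩), rfl⟩
  have h3 : Nat.card A ^ 3 ≤ Nat.card A ^ 2 :=
    calc Nat.card A ^ 3 ≤ Nat.card A ^ p := Nat.pow_le_pow_right (by omega) hp3
      _ ≤ (Nat.card {a : A // c • a = a} * Nat.card {a : A // d • a = a}) ^ p :=
          Nat.pow_le_pow_left hle p
      _ = Nat.card {a : A // c • a = a} ^ p * Nat.card {a : A // d • a = a} ^ p := mul_pow _ _ _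
      _ ≤ Nat.card A * Nat.card A := Nat.mul_le_mul hcb hdb
      _ = Nat.card A ^ 2 := (pow_two _).symm
  have := Nat.pow_lt_pow_right hntA (show 2 < 3 by norm_num)
  omega

end Abelian

section Group

variable {G : Type*} [Group G] [Finite G]

/-- The conjugation action on the abelianisation. -/
def abAction (P M : Subgroup G) (hPM : P ≤ Subgroup.normalizer (M : Set G)) :
    P →* MulAut (Abelianization M) :=
  MonoidHom.mk' (fun a => (Subgroup.normalizerMonoidHom M ⟨a.1, hPM a.2⟩).abelianizationCongr)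
    fun a b => by
    refine MulEquiv.ext fun u => ?_
    induction u using QuotientGroup.induction_on with
    | _ m =>
      change Abelianization.of _ = Abelianization.of _
      congr 1
      exact DFunLike.congr_fun (map_mul (Subgroup.normalizerMonoidHom M) ⟨a.1, hPM a.2⟩
        ⟨b.1, hPM b.2⟩) m

theorem le_centralizer_of_isPGroup {p : ℕ} [Fact p.Prime] (hp3 : 3 ≤ p) (P : Subgroup G)
    (hP : IsPGroup p P) (C D : Set G) (hC : Subgroup.closure C = P) (hD : Subgroup.closure D = P)
    {r : ℕ} [Fact r.Prime] :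
    ∀ (n : ℕ) (M : Subgroup G), Nat.card M = n → IsPGroup r M →
      P ≤ Subgroup.normalizer (M : Set G) → (Nat.card M).Coprime p →
      (∀ x ∈ M, ∀ c ∈ C, ∀ d ∈ D,
        IsPGroup p ↥(Subgroup.closure ({x * c * x⁻¹, d} : Set G))) →
      P ≤ Subgroup.centralizer (M : Set G) := by
  intro n
  induction n using Nat.strong_induction_on with
  | _ n ih =>
  intro M hn hM hPM hcop h
  rcases eq_or_ne M ⊥ with rfl | hne
  · intro a _
    rw [Subgroup.mem_centralizer_iff]
    intro m hm
    rw [Subgroup.mem_bot.1 hm, one_mul, mul_one]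
  haveI := hM.isNilpotent
  have hlt : ⁅M, M⁆ < M := CoprimeAction.commutator_lt_of_isSolvable M hne
  have hPM' : P ≤ Subgroup.normalizer ((⁅M, M⁆ : Subgroup G) : Set G) :=
    hPM.trans (CoprimeAction.normalizer_le_normalizer_commutator M)
  have hcP : ∀ H : Subgroup G, (Nat.card H).Coprime p → (Nat.card P).Coprime (Nat.card H) := by
    intro H hH
    obtain ⟨k, hk⟩ := IsPGroup.iff_card.1 hP
    rw [hk]
    exact (hH.pow_right k).symm
  have hM' : P ≤ Subgroup.centralizer ((⁅M, M⁆ : Subgroup G) : Set G) :=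
    ih _ (hn ▸ lt_of_le_of_ne (Subgroup.card_le_of_le hlt.le)
      fun e => hlt.ne (Subgroup.eq_of_le_of_card_ge hlt.le e.ge)) _ rfl (hM.to_le hlt.le) hPM'
      (hcop.coprime_dvd_left (Subgroup.card_dvd_of_le hlt.le)) fun x hx => h x (hlt.le hx)
  -- the product of centralizers
  have hprod : ∀ x ∈ M, ∀ c ∈ C, ∀ d ∈ D, ∃ m ∈ M,
      Commute d m ∧ Commute c (m⁻¹ * x) := by
    intro x hx c hc d hd
    have hcP' : c ∈ P := hC ▸ Subgroup.subset_closure hc
    have hdP : d ∈ P := hD ▸ Subgroup.subset_closure hd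
    have hB : Subgroup.closure ({x * c * x⁻¹, d} : Set G) ≤ M ⊔ P := by
      rw [Subgroup.closure_le]
      rintro y (rfl | rfl)
      · exact mul_mem (mul_mem (Subgroup.mem_sup_left hx) (Subgroup.mem_sup_right hcP'))
          (inv_mem (Subgroup.mem_sup_left hx))
      · exact Subgroup.mem_sup_right hdP
    obtain ⟨k, hk⟩ := IsPGroup.iff_card.1 (h x hx c hc d hd)
    obtain ⟨m, hm, hle⟩ := CoprimeAction.exists_le_conj_of_coprime hPM hB
      (by rw [hk]; exact (hcop.pow_right k).symm) (Or.inr inferInstance)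
    have hbot : ∀ y, y ∈ M → y ∈ P → y = 1 := fun y h1 h2 => by
      have : M ⊓ P = ⊥ := Subgroup.inf_eq_bot_of_coprime (hcP M hcop).symm
      exact Subgroup.mem_bot.1 (this ▸ ⟨h1, h2⟩)
    have hd' := CoprimeAction.mem_conj_iff.1
      (hle (Subgroup.subset_closure (Set.mem_insert_of_mem _ rfl)))
    have hc' := CoprimeAction.mem_conj_iff.1
      (hle (Subgroup.subset_closure (Set.mem_insert _ _)))
    refine ⟨m, hm, ?_, ?_⟩
    · have h1 : m⁻¹ * (d * m * d⁻¹) = 1 := hbot _
        (mul_mem (inv_mem hm) (CoprimeAction.conj_mem (hPM hdP) hm))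
        (by simpa [mul_assoc] using mul_mem hd' (inv_mem hdP))
      change d * m = m * d
      calc d * m = m * (m⁻¹ * (d * m * d⁻¹)) * d := by group
        _ = m * d := by rw [h1, mul_one]
    · have hy : m⁻¹ * x ∈ M := mul_mem (inv_mem hm) hx
      have h1 : (m⁻¹ * x) * (c * (m⁻¹ * x)⁻¹ * c⁻¹) = 1 := hbot _
        (mul_mem hy (CoprimeAction.conj_mem (hPM hcP') (inv_mem hy)))
        (by simpa [mul_assoc] using mul_mem hc' (inv_mem hcP'))
      change c * (m⁻¹ * x) = m⁻¹ * x * c
      calc c * (m⁻¹ * x) = ((m⁻¹ * x) * (c * (m⁻¹ * x)⁻¹ * c⁻¹)) * c * (m⁻¹ * x) := by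
            rw [h1, one_mul]
        _ = m⁻¹ * x * c := by group
  let φ := abAction P M hPM
  letI : MulDistribMulAction P (Abelianization M) :=
    MulDistribMulAction.compHom (Abelianization M) φ
  have hsmul : ∀ (a : P) (m : M), a • Abelianization.of m =
      Abelianization.of ⟨a * m * a⁻¹, CoprimeAction.conj_mem (hPM a.2) m.2⟩ := fun a m => rfl
  have hab : ∀ (a : P) (u : Abelianization M), a • u = u := by
    refine abelian_aux (Fact.out : p.Prime) hp3 hP (P.subtype ⁻¹' C) (P.subtype ⁻¹' D)
      (Subgroup.map_injective P.subtype_injective ?_) (Subgroup.map_injective P.subtype_injective ?_)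
      _ (Abelianization M) rfl (hcop.coprime_dvd_left (Subgroup.card_quotient_dvd_card _)) ?_
    · rw [MonoidHom.map_closure, ← MonoidHom.range_eq_map, Subgroup.range_subtype,
        Set.image_preimage_eq_of_subset, hC]
      intro c hc
      exact ⟨⟨c, hC ▸ Subgroup.subset_closure hc⟩, rfl⟩
    · rw [MonoidHom.map_closure, ← MonoidHom.range_eq_map, Subgroup.range_subtype,
        Set.image_preimage_eq_of_subset, hD]
      intro d hd
      exact ⟨⟨d, hD ▸ Subgroup.subset_closure hd⟩, rfl⟩
    intro c hc d hd u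
    induction u using QuotientGroup.induction_on with
    | _ x =>
      obtain ⟨m, hm, hdm, hcm⟩ := hprod x x.2 c hc d hd
      refine ⟨Abelianization.of ⟨m⁻¹ * x, mul_mem (inv_mem hm) x.2⟩, Abelianization.of ⟨m, hm⟩,
        ?_, ?_, ?_⟩
      · rw [hsmul]
        exact congrArg _ (Subtype.ext (by simp [hcm.eq, mul_assoc]))
      · rw [hsmul]
        exact congrArg _ (Subtype.ext (by simp [hdm.eq, mul_assoc]))
      · rw [mul_comm, ← map_mul]
        exact congrArg _ (Subtype.ext (by simp))
  refine CoprimeAction.le_centralizer_of_series hlt.le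
    (hcP _ (hcop.coprime_dvd_left (Subgroup.card_dvd_of_le hlt.le))) hM' fun a ha m hm => ?_
  have h1 := hab ⟨a, ha⟩ (Abelianization.of ⟨m, hm⟩)
  rw [hsmul] at h1
  have h2 := QuotientGroup.eq.1 h1.symm
  have h3 : M.subtype _ ∈ (_root_.commutator M).map M.subtype := Subgroup.mem_map_of_mem _ h2
  rw [Subgroup.map_subtype_commutator] at h3
  simpa using h3

theorem commutator_eq_bot {p : ℕ} [Fact p.Prime] (hp3 : 3 ≤ p) (P N : Subgroup G)
    (hP : IsPGroup p P) (hPN : P ≤ Subgroup.normalizer (N : Set G))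
    (hN : (Nat.card N).Coprime p)
    (C D : Set G) (hC : Subgroup.closure C = P) (hD : Subgroup.closure D = P)
    (h : ∀ x ∈ N, ∀ c ∈ C, ∀ d ∈ D, IsPGroup p ↥(Subgroup.closure ({x * c * x⁻¹, d} : Set G))) :
    ⁅P, N⁆ = ⊥ := by
  rw [Subgroup.commutator_eq_bot_iff_le_centralizer]
  have hcP : (Nat.card P).Coprime (Nat.card N) := by
    obtain ⟨k, hk⟩ := IsPGroup.iff_card.1 hP
    rw [hk]
    exact (hN.pow_right k).symm
  haveI := hP.isNilpotent
  let K : Subgroup G := N ⊓ Subgroup.centralizer (P : Set G)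
  have hK : Nat.card N ∣ Nat.card K := by
    rw [← Nat.factorization_prime_le_iff_dvd Nat.card_pos.ne' Nat.card_pos.ne']
    intro r hr
    haveI : Fact r.Prime := ⟨hr⟩
    obtain ⟨R, hR⟩ := CoprimeAction.exists_invariant_sylow hPN hcP (Or.inl inferInstance) r
    let R' : Subgroup G := (R : Subgroup N).map N.subtype
    have hR'N : R' ≤ N := Subgroup.map_subtype_le _
    have hc := le_centralizer_of_isPGroup hp3 P hP C D hC hD (r := r) _ R' rfl (R.2.map _) hR
      (hN.coprime_dvd_left (Subgroup.card_dvd_of_le hR'N)) fun x hx => h x (hR'N hx)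
    have hle : R' ≤ K := le_inf hR'N (Subgroup.le_centralizer_iff.1 hc)
    have hdvd := Subgroup.card_dvd_of_le hle
    rw [← Nat.card_congr ((R : Subgroup N).equivMapOfInjective _ N.subtype_injective).toEquiv,
      R.card_eq_multiplicity] at hdvd
    exact (hr.pow_dvd_iff_le_factorization Nat.card_pos.ne').1 hdvd
  have hKN : K = N := Subgroup.eq_of_le_of_card_ge inf_le_left (Nat.le_of_dvd Nat.card_pos hK)
  exact Subgroup.le_centralizer_iff.1 (hKN ▸ inf_le_right)

end Group

end CfsgLib.InvCentralizers.CentralizerProduct
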