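import Mathlib
import Cfsg.Agent.Lib.InvCentralizers.AbelianEigen

/-!
Traces computed through the simultaneous eigenspace decomposition of a finite abelian group of
operators.
-/

set_option autoImplicit false

namespace CfsgLib.InvCentralizers.AbelianEigen

variable {M : Type*} [AddCommGroup M] [Fintype M] {V : Type*} [AddCommGroup V] [Module ℂ V]
variable {P : M → M → ℂ} {U : M → Module.End ℂ V}

/-- The projection onto `eig P U B`. -/
noncomputable def eproj (P : M → M → ℂ) (U : M → Module.End ℂ V) (B : M) : Module.End ℂ V :=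
  (Fintype.card M : ℂ)⁻¹ • proj P U B

theorem eproj_mem (h : Setup P U) (B : M) (w : V) : eproj P U B w ∈ eig P U B :=
  Submodule.smul_mem _ _ (proj_apply_mem h B w)

theorem eproj_eig (h : Setup P U) {B : M} {w : V} (hw : w ∈ eig P U B) : eproj P U B w = w := by
  rw [eproj, LinearMap.smul_apply, proj_apply_eig h B B hw, sub_self, smul_smul]
  simp [h.zeroL]

theorem eproj_eig_ne (h : Setup P U) {B B' : M} (hne : B' ≠ B) {w : V} (hw : w ∈ eig P U B') :
    eproj P U B w = 0 := by
  rw [eproj, LinearMap.smul_apply, proj_apply_eig h B B' hw, h.orth _ (sub_ne_zero.2 hne),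
    zero_smul, smul_zero]

theorem isProj_eproj (h : Setup P U) (B : M) : LinearMap.IsProj (eig P U B) (eproj P U B) :=
  ⟨eproj_mem h B, fun _ => eproj_eig h⟩

theorem sum_eproj (h : Setup P U) : ∑ B, eproj P U B = 1 := by
  refine LinearMap.ext fun w => ?_
  simp [eproj, LinearMap.sum_apply, ← Finset.smul_sum, sum_proj h w]

theorem U_eq_sum (h : Setup P U) (S : M) : U S = ∑ B, P B S • eproj P U B := by
  refine LinearMap.ext fun w => ?_
  have h1 : U S w = U S ((∑ B, eproj P U B) w) := by rw [sum_eproj h, Module.End.one_apply]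
  rw [h1]
  simp [LinearMap.sum_apply, eproj_mem h _ w S]

theorem trace_eproj [FiniteDimensional ℂ V] (h : Setup P U) (B : M) :
    LinearMap.trace ℂ V (eproj P U B) = (Module.finrank ℂ (eig P U B) : ℂ) :=
  (isProj_eproj h B).trace

/-- The character of the abelian group in terms of the eigenspace dimensions. -/
theorem trace_U [FiniteDimensional ℂ V] (h : Setup P U) (S : M) :
    LinearMap.trace ℂ V (U S) = ∑ B, P B S * (Module.finrank ℂ (eig P U B) : ℂ) := by
  rw [U_eq_sum h S, map_sum]
  simp [trace_eproj h]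

theorem finrank_eq_sum [FiniteDimensional ℂ V] (h : Setup P U) :
    Module.finrank ℂ V = ∑ B, Module.finrank ℂ (eig P U B) := by
  have h1 := trace_U h 0
  rw [h.map_zero, LinearMap.trace_one] at h1
  simp only [h.zeroR, one_mul] at h1
  exact_mod_cast h1

/-- Trace of an operator permuting the eigenspaces and fixing the invariant ones outside `0`
pointwise. -/
theorem trace_perm [FiniteDimensional ℂ V] (h : Setup P U) [DecidableEq M] (g : Module.End ℂ V)
    (π : M → M) (hπ0 : π 0 = 0) (hπ : ∀ B, ∀ w ∈ eig P U B, g w ∈ eig P U (π B))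
    (hfix : ∀ B, B ≠ 0 → π B = B → ∀ w ∈ eig P U B, g w = w) :
    LinearMap.trace ℂ V g =
      LinearMap.trace ℂ (eig P U 0) (g.restrict fun w hw => hπ0 ▸ hπ 0 w hw) +
        ∑ B ∈ Finset.univ.filter (fun B => B ≠ 0 ∧ π B = B),
          (Module.finrank ℂ (eig P U B) : ℂ) := by
  have h1 : LinearMap.trace ℂ V g = ∑ B, LinearMap.trace ℂ V (g * eproj P U B) := by
    rw [← map_sum, ← Finset.mul_sum, sum_eproj h, mul_one]
  rw [h1, ← Finset.add_sum_erase _ _ (Finset.mem_univ (0 : M))]
  congr 1
  · let p : V →ₗ[ℂ] eig P U 0 := (eproj P U 0).codRestrict _ (eproj_mem h 0)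
    have e : g * eproj P U 0 = (g ∘ₗ (eig P U 0).subtype) ∘ₗ p := rfl
    rw [e, LinearMap.trace_comp_comm']
    congr 1
    refine LinearMap.ext fun w => Subtype.ext ?_
    have h2 := hπ 0 _ w.2
    rw [hπ0] at h2
    exact eproj_eig h h2
  · rw [← Finset.sum_subset (s₁ := Finset.univ.filter fun B => B ≠ 0 ∧ π B = B)
      (s₂ := Finset.univ.erase 0)]
    · refine Finset.sum_congr rfl fun B hB => ?_
      obtain ⟨hB0, hB1⟩ := (Finset.mem_filter.1 hB).2
      have e : g * eproj P U B = eproj P U B :=
        LinearMap.ext fun w => hfix B hB0 hB1 _ (eproj_mem h B w)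
      rw [e, trace_eproj h]
    · intro B hB
      exact Finset.mem_erase.2 ⟨(Finset.mem_filter.1 hB).2.1, Finset.mem_univ _⟩
    · intro B hB hnot
      have hB0 := (Finset.mem_erase.1 hB).1
      have hB1 : π B ≠ B := fun e => hnot (Finset.mem_filter.2 ⟨Finset.mem_univ _, hB0, e⟩)
      have e : eproj P U B * eproj P U B = eproj P U B :=
        LinearMap.ext fun w => eproj_eig h (eproj_mem h B w)
      have e0 : eproj P U B * (g * eproj P U B) = 0 :=
        LinearMap.ext fun w => eproj_eig_ne h hB1 (hπ B _ (eproj_mem h B w))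
      calc LinearMap.trace ℂ V (g * eproj P U B)
          = LinearMap.trace ℂ V ((g * eproj P U B) * eproj P U B) := by rw [mul_assoc, e]
        _ = LinearMap.trace ℂ V (eproj P U B * (g * eproj P U B)) := LinearMap.trace_mul_comm ℂ _ _
        _ = 0 := by rw [e0, map_zero]

end CfsgLib.InvCentralizers.AbelianEigen
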