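import Mathlib
import Cfsg.Agent.Lib.InvCentralizers.SympBound
import Cfsg.Agent.Lib.ClassicalLinear.Generation

/-!
Invariant spaces of functions on the non-zero vectors under the special linear group (dimension at
least three), homogeneous for a character of the scalars.
-/

set_option autoImplicit false

namespace CfsgLib.InvCentralizers.PermModule

open Matrix
open CfsgLib.InvCentralizers.SympBound (psi exists_psi_ne)

variable {F : Type*} [Field F] {ι : Type} [Fintype ι] [DecidableEq ι]

/-- `SL` is transitive on independent pairs in dimension at least three. -/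
theorem exists_sl_pair (h3 : 3 ≤ Fintype.card ι) {a z a' z' : ι → F}
    (h : LinearIndependent F ![a, z]) (h' : LinearIndependent F ![a', z']) :
    ∃ g : SpecialLinearGroup ι F,
      (g : Matrix ι ι F) *ᵥ a = a' ∧ (g : Matrix ι ι F) *ᵥ z = z' := by
  classical
  obtain ⟨W, hW⟩ := Submodule.exists_isCompl (Submodule.span F (Set.range ![a, z]))
  obtain ⟨W', hW'⟩ := Submodule.exists_isCompl (Submodule.span F (Set.range ![a', z']))
  let b := Module.Basis.span h
  let b' := Module.Basis.span h'
  have hd : Module.finrank F W = Module.finrank F W' := by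
    have h1 := Submodule.finrank_add_eq_of_isCompl hW
    have h2 := Submodule.finrank_add_eq_of_isCompl hW'
    rw [finrank_span_eq_card h] at h1
    rw [finrank_span_eq_card h'] at h2
    omega
  let e : (ι → F) ≃ₗ[F] (ι → F) :=
    (Submodule.prodEquivOfIsCompl _ _ hW).symm.trans
      (((b.equiv b' (Equiv.refl _)).prodCongr (LinearEquiv.ofFinrankEq _ _ hd)).trans
        (Submodule.prodEquivOfIsCompl _ _ hW'))
  have he : ∀ i, e (![a, z] i) = ![a', z'] i := by
    intro i
    have h1 : (![a, z] i) = ((b i : Submodule.span F (Set.range ![a, z])) : ι → F) :=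
      (Module.Basis.coe_span_apply h i).symm
    rw [h1]
    simp only [e, LinearEquiv.trans_apply, Submodule.prodEquivOfIsCompl_symm_apply_left,
      LinearEquiv.prodCongr_apply, map_zero, Module.Basis.equiv_apply, Equiv.refl_apply]
    rw [Submodule.coe_prodEquivOfIsCompl']
    simp [b', Module.Basis.coe_span_apply]
  obtain ⟨θ, hθ0, hθ⟩ : ∃ θ : (ι → F) →ₗ[F] F, θ ≠ 0 ∧
      Submodule.span F (Set.range ![a', z']) ≤ LinearMap.ker θ := by
    refine Submodule.exists_le_ker_of_lt_top _ (lt_top_iff_ne_top.2 fun ht => ?_)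
    have h1 := finrank_span_eq_card h'
    rw [ht, finrank_top, Module.finrank_fintype_fun_eq_card, Fintype.card_fin] at h1
    omega
  obtain ⟨w, hw⟩ : ∃ w, θ w = 1 := by
    obtain ⟨w, hw⟩ : ∃ w, θ w ≠ 0 := by
      by_contra hc; push Not at hc; exact hθ0 (LinearMap.ext hc)
    exact ⟨(θ w)⁻¹ • w, by simp [hw]⟩
  set M := LinearMap.toMatrix' e.toLinearMap with hM
  have hM0 : M.det ≠ 0 := by
    rw [hM, LinearMap.det_toMatrix']
    exact e.isUnit_det'.ne_zero
  set θv : ι → F := fun i => θ (Pi.single i 1)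
  have hθv : ∀ x, θv ⬝ᵥ x = θ x := by
    intro x
    conv_rhs => rw [pi_eq_sum_univ' x]
    simp only [map_sum, map_smul, dotProduct, θv, smul_eq_mul]
    exact Finset.sum_congr rfl fun i _ => by ring
  set D : Matrix ι ι F := 1 + vecMulVec ((M.det⁻¹ - 1) • w) θv
  have hDdet : D.det = M.det⁻¹ := by
    simp only [D, vecMulVec_eq Unit, det_one_add_replicateCol_mul_replicateRow, dotProduct_smul,
      hθv, map_smul, hw, smul_eq_mul, mul_one, add_sub_cancel]
  have hDfix : ∀ x ∈ Submodule.span F (Set.range ![a', z']), D *ᵥ x = x := by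
    intro x hx
    simp only [D, add_mulVec, one_mulVec, vecMulVec_mulVec, hθv,
      show θ x = 0 from hθ hx]
    simp
  refine ⟨⟨D * M, by rw [det_mul, hDdet, inv_mul_cancel₀ hM0]⟩, ?_, ?_⟩
  · change (D * M) *ᵥ a = a'
    rw [← mulVec_mulVec, hM, LinearMap.toMatrix'_mulVec]
    change D *ᵥ (e (![a, z] 0)) = _
    rw [he]
    exact hDfix _ (Submodule.subset_span ⟨0, rfl⟩)
  · change (D * M) *ᵥ z = z'
    rw [← mulVec_mulVec, hM, LinearMap.toMatrix'_mulVec]
    change D *ᵥ (e (![a, z] 1)) = _
    rw [he]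
    exact hDfix _ (Submodule.subset_span ⟨1, rfl⟩)

/-- Non-zero vectors. -/
abbrev X (ι : Type) (F : Type*) [Zero F] := {x : ι → F // x ≠ 0}

/-- The action of `SL` on non-zero vectors. -/
def act (g : SpecialLinearGroup ι F) (x : X ι F) : X ι F :=
  ⟨(g : Matrix ι ι F) *ᵥ x, fun h => x.2 (by
    have h1 := congrArg ((((g⁻¹ : SpecialLinearGroup ι F)) : Matrix ι ι F) *ᵥ ·) h
    simp only [mulVec_mulVec, mulVec_zero] at h1
    rw [← Matrix.SpecialLinearGroup.coe_mul, inv_mul_cancel] at h1
    simpa using h1)⟩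

theorem act_mul (g h : SpecialLinearGroup ι F) (x : X ι F) : act (g * h) x = act g (act h x) := by
  apply Subtype.ext
  simp [act, mulVec_mulVec]

theorem act_one (x : X ι F) : act 1 x = x := by
  apply Subtype.ext
  simp [act]

/-- Scaling of a non-zero vector. -/
def scale (c : Fˣ) (x : X ι F) : X ι F := ⟨(c : F) • x.1, smul_ne_zero c.ne_zero x.2⟩

theorem exists_act_eq (h3 : 3 ≤ Fintype.card ι) (x y : X ι F) : ∃ g, act g x = y := by
  obtain ⟨z, hz⟩ := exists_linearIndependent_pair_of_one_lt_finrank (R := F)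
    (by rw [Module.finrank_fintype_fun_eq_card]; omega) x.2
  obtain ⟨z', hz'⟩ := exists_linearIndependent_pair_of_one_lt_finrank (R := F)
    (by rw [Module.finrank_fintype_fun_eq_card]; omega) y.2
  obtain ⟨g, hg, -⟩ := exists_sl_pair h3 hz hz'
  exact ⟨g, Subtype.ext hg⟩

theorem transvection_mulVec {i j : ι} (hij : i ≠ j) (b : F) (x : X ι F) :
    (act (SpecialLinearGroup.transvection hij b) x).1 =
      x.1 + (b * x.1 j) • (Pi.single i 1 : ι → F) := by
  funext k
  change ((1 + Matrix.single i j b : Matrix ι ι F) *ᵥ x.1) k = _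
  rw [add_mulVec, one_mulVec, Pi.add_apply, Pi.add_apply]
  congr 1
  rcases eq_or_ne k i with rfl | hk
  · simp [mulVec, dotProduct, Matrix.single_apply]
  · simp [mulVec, dotProduct, Matrix.single_apply, hk, Ne.symm hk]

/-- Homogeneous functions. -/
def homog (l : Fˣ →* ℂ) : Submodule ℂ (X ι F → ℂ) where
  carrier := {φ | ∀ c x, φ (scale c x) = l c * φ x}
  add_mem' {φ φ'} h h' c x := by simp [h c x, h' c x, mul_add]
  zero_mem' c x := by simp
  smul_mem' a {φ} h c x := by simp [h c x, mul_left_comm]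

variable [Fintype F] [DecidableEq F]

open scoped Classical in
/-- The homogeneous function supported on one line. -/
noncomputable def dl (l : Fˣ →* ℂ) (u : X ι F) : X ι F → ℂ := fun x =>
  if h : ∃ c : Fˣ, x = scale c u then l h.choose else 0

theorem scale_inj {c c' : Fˣ} {u : X ι F} (h : scale c u = scale c' u) : c = c' :=
  Units.ext (smul_left_injective F u.2 (congrArg Subtype.val h))

theorem dl_scale (l : Fˣ →* ℂ) (u : X ι F) (c : Fˣ) : dl l u (scale c u) = l c := by
  have h : ∃ c' : Fˣ, scale c u = scale c' u := ⟨c, rfl⟩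
  rw [dl, dif_pos h, ← scale_inj h.choose_spec]

theorem dl_of_not (l : Fˣ →* ℂ) (u x : X ι F) (h : ∀ c : Fˣ, x ≠ scale c u) : dl l u x = 0 := by
  rw [dl, dif_neg fun ⟨c, hc⟩ => h c hc]

theorem scale_scale (c d : Fˣ) (x : X ι F) : scale c (scale d x) = scale (c * d) x := by
  apply Subtype.ext; simp [scale, smul_smul]

theorem dl_self (l : Fˣ →* ℂ) (u : X ι F) : dl l u u = 1 := by
  have h : scale 1 u = u := Subtype.ext (one_smul F _)
  conv_lhs => rw [← h]
  rw [show dl l (scale 1 u) = dl l u by rw [h], dl_scale, map_one]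

omit [Fintype F] in
theorem scale_act (c : Fˣ) (g : SpecialLinearGroup ι F) (x : X ι F) :
    act g (scale c x) = scale c (act g x) := by
  apply Subtype.ext; simp [act, scale, mulVec_smul]

theorem dl_act (l : Fˣ →* ℂ) (g : SpecialLinearGroup ι F) (u x : X ι F) :
    dl l u (act g x) = dl l (act g⁻¹ u) x := by
  by_cases h : ∃ c : Fˣ, act g x = scale c u
  · obtain ⟨c, hc⟩ := h
    have hx : x = scale c (act g⁻¹ u) := by
      rw [← scale_act, ← hc, ← act_mul, inv_mul_cancel, act_one]
    rw [hc, dl_scale, hx, dl_scale]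
  · push Not at h
    rw [dl_of_not l u _ h, dl_of_not l _ x fun c hc => h c (by
      rw [hc, scale_act, ← act_mul, mul_inv_cancel, act_one])]

/-- A non-constant invariant space of homogeneous functions contains all differences of lines. -/
theorem dl_sub_mem (h3 : 3 ≤ Fintype.card ι) (l : Fˣ →* ℂ) (W : Submodule ℂ (X ι F → ℂ))
    (hW : ∀ g, ∀ φ ∈ W, (fun x => φ (act g x)) ∈ W) (hl : W ≤ homog l)
    (hnc : ∃ φ ∈ W, ∃ x y, φ x ≠ φ y) :
    ∀ u v : X ι F, LinearIndependent F ![u.1, v.1] → dl l u - dl l v ∈ W := by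
  classical
  obtain ⟨φ, hφ, x, y, hxy⟩ := hnc
  obtain ⟨i, j, hij, b, z, hz⟩ : ∃ (i j : ι) (hij : i ≠ j) (b : F) (z : X ι F),
      φ (act (SpecialLinearGroup.transvection hij b) z) ≠ φ z := by
    by_contra hcon
    push Not at hcon
    have hinv : ∀ g, ∀ w, φ (act g w) = φ w := by
      intro g
      refine CfsgLib.ClassicalLinear.transvection_induction
        (P := fun g => ∀ w, φ (act g w) = φ w) (fun w => by rw [act_one]) (fun i j h c w => hcon i j h c w)
        (fun A B hA hB w => by rw [act_mul, hA, hB]) g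
    obtain ⟨g, hg⟩ := exists_act_eq h3 x y
    exact hxy (by rw [← hg, hinv])
  set a : ι → F := Pi.single i 1 with ha
  -- the translation `z + t a` is moved by a transvection along `a`
  have hzj : z.1 j * b ≠ 0 := by
    intro h0
    apply hz
    congr 1
    apply Subtype.ext
    rw [transvection_mulVec, mul_comm b, h0, zero_smul, add_zero]
  have hli : LinearIndependent F ![a, z.1] := by
    rw [LinearIndependent.pair_iff]
    intro s t hst
    have h1 := congrFun hst j
    simp [a, hij, Ne.symm hij] at h1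
    have ht : t = 0 := h1.resolve_right (left_ne_zero_of_mul hzj)
    refine ⟨?_, ht⟩
    have h2 := congrFun hst i
    simpa [a, ht] using h2
  have hzt : ∀ t : F, z.1 + t • a ≠ 0 := fun t h => by
    have := (LinearIndependent.pair_iff.1 hli) t 1 (by rw [one_smul, add_comm]; exact h)
    exact one_ne_zero this.2
  set zt : F → X ι F := fun t => ⟨z.1 + t • a, hzt t⟩
  -- a non-trivial Fourier coefficient along the line
  obtain ⟨s, hs0, hs⟩ : ∃ s : F, s ≠ 0 ∧ ∑ t, psi F (-(s * t)) * φ (zt t) ≠ 0 := by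
    by_contra hcon
    push Not at hcon
    have hconst : ∀ r, (Fintype.card F : ℂ) * φ (zt r) = ∑ t, φ (zt t) := by
      intro r
      have h1 : ∀ t, ∑ s, psi F (s * (r - t)) = if r = t then (Fintype.card F : ℂ) else 0 := by
        intro t
        split_ifs with h
        · simp [h]
        · have hne : (psi F).mulShift (r - t) ≠ 1 := CfsgLib.InvCentralizers.SympBound.psi_prim
            (sub_ne_zero.2 h)
          simpa [AddChar.mulShift_apply, mul_comm] using AddChar.sum_eq_zero_of_ne_one hne
      calc (Fintype.card F : ℂ) * φ (zt r)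
          = ∑ t, (∑ s, psi F (s * (r - t))) * φ (zt t) := by simp [h1]
        _ = ∑ s, psi F (s * r) * ∑ t, psi F (-(s * t)) * φ (zt t) := by
          simp only [Finset.sum_mul, Finset.mul_sum]
          rw [Finset.sum_comm]
          refine Finset.sum_congr rfl fun s _ => Finset.sum_congr rfl fun t _ => ?_
          rw [← mul_assoc, ← AddChar.map_add_eq_mul]
          congr 2
          ring
        _ = ∑ t, φ (zt t) := by
          rw [Finset.sum_eq_single 0]
          · simp
          · intro s _ hs; rw [hcon s hs, mul_zero]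
          · simp
    have hq : (Fintype.card F : ℂ) ≠ 0 := by exact_mod_cast Fintype.card_ne_zero
    apply hz
    have e1 : act (SpecialLinearGroup.transvection hij b) z = zt (b * z.1 j) := by
      apply Subtype.ext
      rw [transvection_mulVec]
    have e2 : z = zt 0 := Subtype.ext (by simp [zt])
    rw [e1]
    conv_rhs => rw [e2]
    exact mul_left_cancel₀ hq ((hconst _).trans (hconst 0).symm)
  -- averaging over the transvection group with centre `a`
  let Bs := {β : ι → F // β i = 0}
  let qT : Bs → SpecialLinearGroup ι F := fun β => ⟨1 + vecMulVec a β.1, by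
    rw [vecMulVec_eq Unit, det_one_add_replicateCol_mul_replicateRow]
    simp [a, β.2]⟩
  have hqT : ∀ (β : Bs) (w : X ι F), (act (qT β) w).1 = w.1 + (β.1 ⬝ᵥ w.1) • a := by
    intro β w
    simp [act, qT, add_mulVec, vecMulVec_mulVec]
  let η : F → X ι F → ℂ := fun s =>
    ∑ β : Bs, psi F (-(s * (β.1 ⬝ᵥ z.1))) • fun w => φ (act (qT β) w)
  have hη : η s ∈ W := Submodule.sum_mem _ fun β _ => Submodule.smul_mem _ _ (hW _ _ hφ)
  set C : ℂ := ∑ t, psi F (-(s * t)) * φ (zt t) with hC
  set N : ℂ := (Fintype.card {β : Bs // β.1 ⬝ᵥ z.1 = 0} : ℂ) with hN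
  have hN0 : N ≠ 0 := by
    rw [hN]
    have : Nonempty {β : Bs // β.1 ⬝ᵥ z.1 = 0} := ⟨⟨⟨0, rfl⟩, zero_dotProduct _⟩⟩
    exact_mod_cast Fintype.card_ne_zero
  -- `β ↦ β ⬝ z` is onto
  let β₁ : Bs := ⟨Pi.single j (z.1 j)⁻¹, by simp [Ne.symm hij]⟩
  have hβ₁ : β₁.1 ⬝ᵥ z.1 = 1 := by simp [β₁, left_ne_zero_of_mul hzj]
  have hsplit : ∀ f : F → ℂ, ∑ β : Bs, f (β.1 ⬝ᵥ z.1) = N * ∑ t, f t := by
    intro f
    have hfib : ∀ t : F, (Finset.univ.filter fun β : Bs => β.1 ⬝ᵥ z.1 = t).card =
        Fintype.card {β : Bs // β.1 ⬝ᵥ z.1 = 0} := by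
      intro t
      rw [Fintype.card_subtype]
      refine Finset.card_bij (fun β _ => ⟨β.1 - t • β₁.1, by simp [β.2, β₁.2]⟩) ?_ ?_ ?_
      · intro β hβ
        simp only [Finset.mem_filter, Finset.mem_univ, true_and] at hβ ⊢
        simp [sub_dotProduct, hβ, hβ₁]
      · intro β _ β' _ h
        exact Subtype.ext (sub_left_inj.1 (congrArg Subtype.val h))
      · intro β hβ
        simp only [Finset.mem_filter, Finset.mem_univ, true_and] at hβ
        refine ⟨⟨β.1 + t • β₁.1, by simp [β.2, β₁.2]⟩, ?_, Subtype.ext (by simp)⟩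
        simp [add_dotProduct, hβ, hβ₁]
    rw [← Finset.sum_fiberwise Finset.univ (fun β : Bs => β.1 ⬝ᵥ z.1), Finset.mul_sum]
    refine Finset.sum_congr rfl fun t _ => ?_
    rw [Finset.sum_congr rfl fun β hβ => congrArg f (Finset.mem_filter.1 hβ).2,
      Finset.sum_const, hfib, nsmul_eq_mul, hN]
  -- the value of the average
  have hval : η s = (N * C) • ∑ r, psi F (s * r) • dl l (zt r) := by
    funext w
    simp only [η, Finset.sum_apply, Pi.smul_apply, smul_eq_mul]
    by_cases hw : ∃ (c : Fˣ) (r : F), w = scale c (zt r)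
    · obtain ⟨c, r, rfl⟩ := hw
      have e1 : ∀ β : Bs, φ (act (qT β) (scale c (zt r))) = l c * φ (zt (r + β.1 ⬝ᵥ z.1)) := by
        intro β
        rw [scale_act, hl hφ]
        congr 2
        apply Subtype.ext
        rw [hqT]
        simp [zt, a, β.2, add_smul, add_assoc]
      simp only [e1]
      rw [hsplit (fun t => psi F (-(s * t)) * (l c * φ (zt (r + t))))]
      have hR : ∑ r', psi F (s * r') * dl l (zt r') (scale c (zt r)) = psi F (s * r) * l c := by
        rw [Finset.sum_eq_single r]
        · rw [dl_scale]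
        · intro r' _ hr'
          rw [dl_of_not l _ _ fun c' hc' => hr' ?_, mul_zero]
          have h1 : (c : F) • (z.1 + r • a) = (c' : F) • (z.1 + r' • a) := congrArg Subtype.val hc'
          have h2 := LinearIndependent.pair_iff.1 hli ((c : F) * r - (c' : F) * r') ((c : F) - c') (by
            simp only [smul_add, smul_smul] at h1
            rw [sub_smul, sub_smul]
            linear_combination (norm := abel) h1)
          have h3 : (c : F) = c' := sub_eq_zero.1 h2.2
          rw [← h3, ← mul_sub, mul_eq_zero] at h2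
          exact (sub_eq_zero.1 (h2.1.resolve_left c.ne_zero)).symm
        · simp
      rw [hR, mul_assoc N C]
      congr 1
      rw [hC, Finset.sum_mul]
      refine Fintype.sum_equiv (Equiv.addLeft r) _ _ fun t => ?_
      simp only [Equiv.coe_addLeft]
      have : psi F (-(s * (r + t))) * psi F (s * r) = psi F (-(s * t)) := by
        rw [← AddChar.map_add_eq_mul]; congr 1; ring
      rw [← this]
      ring
    · push Not at hw
      rw [Finset.sum_eq_zero (s := Finset.univ) (f := fun r => psi F (s * r) * dl l (zt r) w)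
        (fun r _ => by rw [dl_of_not l _ _ fun c => hw c r, mul_zero]), mul_zero]
      by_cases hwa : ∃ c : F, w.1 = c • a
      · obtain ⟨c, hc⟩ := hwa
        have e1 : ∀ β : Bs, φ (act (qT β) w) = φ w := fun β => by
          congr 1; apply Subtype.ext; rw [hqT, hc]; simp [a, β.2]
        simp only [e1, ← Finset.sum_mul]
        rw [hsplit (fun t => psi F (-(s * t)))]
        have hne : (psi F).mulShift (-s) ≠ 1 :=
          CfsgLib.InvCentralizers.SympBound.psi_prim (neg_ne_zero.2 hs0)
        have := AddChar.sum_eq_zero_of_ne_one hne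
        simp only [AddChar.mulShift_apply, neg_mul] at this
        rw [this, mul_zero, zero_mul]
      · push Not at hwa
        -- some `β` kills `w` but not `z`
        obtain ⟨β₀, hβw, hβz⟩ : ∃ β₀ : Bs, β₀.1 ⬝ᵥ w.1 = 0 ∧ β₀.1 ⬝ᵥ z.1 ≠ 0 := by
          by_cases hwj : ∃ k, k ≠ i ∧ w.1 k ≠ 0
          · obtain ⟨k, hk, hwk⟩ := hwj
            by_contra hcon
            push Not at hcon
            have hz' : ∀ m, m ≠ i → z.1 m = (z.1 k / w.1 k) * w.1 m := by
              intro m hm
              have h1 := hcon ⟨w.1 k • Pi.single m 1 - w.1 m • Pi.single k 1, by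
                simp [Ne.symm hm, Ne.symm hk]⟩ (by simp [sub_dotProduct, smul_dotProduct]; ring)
              simp [sub_dotProduct, smul_dotProduct] at h1
              field_simp
              linear_combination h1
            set c := z.1 k / w.1 k with hc
            have hc0 : c ≠ 0 := fun h => left_ne_zero_of_mul hzj (by rw [hz' j (Ne.symm hij), h, zero_mul])
            refine hw (Units.mk0 c hc0)⁻¹ (c * w.1 i - z.1 i) (Subtype.ext ?_)
            funext m
            rcases eq_or_ne m i with rfl | hm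
            · simp [scale, zt, a]
              field_simp
              try ring
            · simp [scale, zt, a, hm, hz' m hm, hc0]
          · push Not at hwj
            exfalso
            refine hwa (w.1 i) (funext fun m => ?_)
            rcases eq_or_ne m i with rfl | hm
            · simp [a]
            · simp [a, hm, hwj m hm]
        let β₂ : Bs := ⟨((β₀.1 ⬝ᵥ z.1)⁻¹) • β₀.1, by simp [β₀.2]⟩
        obtain ⟨c, hc⟩ := exists_psi_ne (F := F) (neg_ne_zero.2 hs0)
        let sh : Bs ≃ Bs :=
          { toFun := fun β => ⟨β.1 + c • β₂.1, by simp [β.2, β₂.2]⟩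
            invFun := fun β => ⟨β.1 - c • β₂.1, by simp [β.2, β₂.2]⟩
            left_inv := fun β => Subtype.ext (by simp)
            right_inv := fun β => Subtype.ext (by simp) }
        set T := ∑ β : Bs, psi F (-(s * (β.1 ⬝ᵥ z.1))) * φ (act (qT β) w) with hT
        have hshift : T = psi F (-s * c) * T := by
          conv_lhs => rw [hT, ← Equiv.sum_comp sh]
          rw [hT, Finset.mul_sum]
          refine Finset.sum_congr rfl fun β _ => ?_
          have e1 : act (qT (sh β)) w = act (qT β) w := by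
            apply Subtype.ext
            rw [hqT, hqT]
            simp [sh, β₂, add_dotProduct, smul_dotProduct, hβw]
          rw [e1, ← mul_assoc, ← AddChar.map_add_eq_mul]
          congr 2
          simp [sh, β₂, add_dotProduct, smul_dotProduct, hβz]
          ring
        by_contra hT0
        exact hc (mul_right_cancel₀ hT0 (by rw [one_mul]; exact hshift.symm))
  have hE : ∀ s', s' ≠ 0 → ∑ r, psi F (s' * r) • dl l (zt r) ∈ W := by
    intro s' hs'
    have hbase : ∑ r, psi F (s * r) • dl l (zt r) ∈ W := by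
      have := W.smul_mem (N * C)⁻¹ hη
      rwa [hval, smul_smul, inv_mul_cancel₀ (mul_ne_zero hN0 hs), one_smul] at this
    have hc : s / s' ≠ 0 := div_ne_zero hs0 hs'
    obtain ⟨g, hga, hgz⟩ := exists_sl_pair h3 hli (a' := (s / s') • a) (z' := z.1) (by
      rw [LinearIndependent.pair_iff]
      intro p t hpt
      rw [smul_smul] at hpt
      obtain ⟨h1, h2⟩ := LinearIndependent.pair_iff.1 hli _ _ hpt
      exact ⟨(mul_eq_zero.1 h1).resolve_right hc, h2⟩)
    have e : ∀ r, act g (zt r) = zt (s / s' * r) := by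
      intro r
      apply Subtype.ext
      simp [act, zt, mulVec_add, mulVec_smul, hga, hgz, smul_smul, mul_comm]
    have h2 := hW g⁻¹ _ hbase
    convert h2 using 1
    funext w
    simp only [Finset.sum_apply, Pi.smul_apply, dl_act, inv_inv, smul_eq_mul]
    refine (Fintype.sum_equiv (Equiv.mulLeft₀ (s / s') hc) _ _ fun r => ?_).symm
    rw [e]
    congr 2
    change _ = s' * (s / s' * r)
    field_simp
  have hbase : dl l (zt 0) - dl l (zt 1) ∈ W := by
    have hsum : ∀ r : F, ∑ s' : F, psi F (s' * r) = if r = 0 then (Fintype.card F : ℂ) else 0 := by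
      intro r
      split_ifs with h
      · simp [h]
      · have hne : (psi F).mulShift r ≠ 1 := CfsgLib.InvCentralizers.SympBound.psi_prim h
        simpa [AddChar.mulShift_apply, mul_comm] using AddChar.sum_eq_zero_of_ne_one hne
    have key : ∑ s' : F, (1 - psi F (-s')) • ∑ r, psi F (s' * r) • dl l (zt r) =
        (Fintype.card F : ℂ) • (dl l (zt 0) - dl l (zt 1)) := by
      have e1 : ∀ s' r : F, psi F (-s') * psi F (s' * r) = psi F (s' * (r - 1)) := fun s' r => by
        rw [← AddChar.map_add_eq_mul]; congr 1; ring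
      simp only [Finset.smul_sum, smul_smul, sub_mul, one_mul, e1, sub_smul, Finset.sum_sub_distrib]
      rw [Finset.sum_comm, Finset.sum_comm (f := fun s' r => psi F (s' * (r - 1)) • dl l (zt r))]
      simp [← Finset.sum_smul, hsum, ite_smul, sub_eq_zero, smul_sub]
    have hq : (Fintype.card F : ℂ) ≠ 0 := by exact_mod_cast Fintype.card_ne_zero
    have hmem : (Fintype.card F : ℂ) • (dl l (zt 0) - dl l (zt 1)) ∈ W := by
      rw [← key]
      refine W.sum_mem fun s' _ => ?_
      rcases eq_or_ne s' 0 with rfl | hs'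
      · simp
      · exact W.smul_mem _ (hE s' hs')
    simpa [smul_smul, inv_mul_cancel₀ hq] using W.smul_mem (Fintype.card F : ℂ)⁻¹ hmem
  intro u v huv
  have hli01 : LinearIndependent F ![(zt 0).1, (zt 1).1] := by
    rw [LinearIndependent.pair_iff]
    intro p t hpt
    simp only [zt, zero_smul, add_zero, one_smul, smul_add, ← add_assoc, ← add_smul] at hpt
    obtain ⟨h1, h2⟩ := LinearIndependent.pair_iff.1 hli t (p + t) (by rw [add_comm]; exact hpt)
    exact ⟨by rw [h1, add_zero] at h2; exact h2, h1⟩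
  obtain ⟨g, hg0, hg1⟩ := exists_sl_pair h3 hli01 huv
  have h2 := hW g⁻¹ _ hbase
  have e0 : act g (zt 0) = u := Subtype.ext hg0
  have e1 : act g (zt 1) = v := Subtype.ext hg1
  simpa only [Pi.sub_apply, Pi.sub_def, dl_act, inv_inv, e0, e1] using h2

/-- Chosen representatives of the lines. -/
noncomputable def reps (F : Type*) [Field F] [Fintype F] [DecidableEq F] (ι : Type) [Fintype ι]
    [DecidableEq ι] : Finset (X ι F) :=
  Finset.univ.filter fun x => ∀ c : Fˣ, Fintype.equivFin (X ι F) x ≤ Fintype.equivFin (X ι F) (scale c x)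

omit [Fintype ι] [DecidableEq ι] [Fintype F] [DecidableEq F] in
theorem scale_one (x : X ι F) : scale 1 x = x := Subtype.ext (one_smul F _)

theorem exists_rep (x : X ι F) : ∃ r ∈ reps F ι, ∃ c : Fˣ, x = scale c r := by
  obtain ⟨c₀, -, hc₀⟩ := Finset.exists_min_image (Finset.univ : Finset Fˣ)
    (fun c => Fintype.equivFin (X ι F) (scale c x)) Finset.univ_nonempty
  refine ⟨scale c₀ x, Finset.mem_filter.2 ⟨Finset.mem_univ _, fun c => ?_⟩, c₀⁻¹, ?_⟩
  · rw [scale_scale]; exact hc₀ _ (Finset.mem_univ _)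
  · rw [scale_scale, inv_mul_cancel, scale_one]

theorem rep_unique {r r' : X ι F} (hr : r ∈ reps F ι) (hr' : r' ∈ reps F ι) {c : Fˣ}
    (h : r' = scale c r) : r' = r := by
  have h1 := (Finset.mem_filter.1 hr).2 c
  have h2 := (Finset.mem_filter.1 hr').2 c⁻¹
  rw [← h] at h1
  rw [h, scale_scale, inv_mul_cancel, scale_one, ← h] at h2
  exact (Fintype.equivFin _).injective (le_antisymm h2 h1)

theorem card_reps :
    (Fintype.card F - 1) * (reps F ι).card = Fintype.card F ^ Fintype.card ι - 1 := by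
  let f : Fˣ × reps F ι → X ι F := fun p => scale p.1 p.2.1
  have hf : Function.Bijective f := by
    refine ⟨fun p p' h => ?_, fun x => ?_⟩
    · obtain ⟨c, r⟩ := p
      obtain ⟨c', r'⟩ := p'
      have h' : r'.1 = scale (c'⁻¹ * c) r.1 := by
        rw [← scale_scale, show scale c r.1 = scale c' r'.1 from h, scale_scale, inv_mul_cancel,
          scale_one]
      have hr : r' = r := Subtype.ext (rep_unique r.2 r'.2 h')
      subst hr
      exact Prod.ext (scale_inj h) rfl
    · obtain ⟨r, hr, c, rfl⟩ := exists_rep x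
      exact ⟨(c, ⟨r, hr⟩), rfl⟩
  have h := Fintype.card_congr (Equiv.ofBijective f hf)
  rw [Fintype.card_prod, Fintype.card_units, Fintype.card_coe, Fintype.card_subtype_compl,
    Fintype.card_subtype_eq, Fintype.card_fun] at h
  exact h

theorem dl_eq_zero_of_ne (l : Fˣ →* ℂ) {r r' : X ι F} (hr : r ∈ reps F ι) (hr' : r' ∈ reps F ι)
    (h : r' ≠ r) : dl l r r' = 0 :=
  dl_of_not l r r' fun _ hc => h (rep_unique hr hr' hc)

theorem li_of_reps {r r' : X ι F} (hr : r ∈ reps F ι) (hr' : r' ∈ reps F ι) (h : r' ≠ r) :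
    LinearIndependent F ![r.1, r'.1] := by
  rw [LinearIndependent.pair_iff]
  intro s t hst
  by_cases ht : t = 0
  · subst ht
    simp only [zero_smul, add_zero] at hst
    exact ⟨(smul_eq_zero.1 hst).resolve_right r.2, rfl⟩
  · exfalso
    have hs : s ≠ 0 := by
      rintro rfl
      simp only [zero_smul, zero_add] at hst
      exact r'.2 ((smul_eq_zero.1 hst).resolve_left ht)
    refine h (rep_unique hr hr' (c := Units.mk0 (-(t⁻¹ * s)) (by simp [hs, ht])) (Subtype.ext ?_))
    change r'.1 = (-(t⁻¹ * s)) • r.1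
    have := congrArg (t⁻¹ • ·) hst
    simp only [smul_add, smul_smul, inv_mul_cancel₀ ht, one_smul, smul_zero] at this
    rw [neg_smul]
    exact eq_neg_of_add_eq_zero_right this

theorem eq_sum_dl {l : Fˣ →* ℂ} {φ : X ι F → ℂ} (hφ : φ ∈ homog l) :
    φ = ∑ r ∈ reps F ι, φ r • dl l r := by
  funext x
  obtain ⟨r₀, hr₀, c, rfl⟩ := exists_rep x
  rw [Finset.sum_apply, Finset.sum_eq_single r₀]
  · rw [Pi.smul_apply, dl_scale, smul_eq_mul, mul_comm, hφ c r₀]
  · intro r hr hne
    rw [Pi.smul_apply, dl_of_not l r _ fun c' hc' => hne ?_, smul_zero]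
    refine (rep_unique hr hr₀ (c := c⁻¹ * c') ?_).symm
    rw [← scale_scale, ← hc', scale_scale, inv_mul_cancel, scale_one]
  · exact fun h => absurd hr₀ h

theorem dl_mem_homog (l : Fˣ →* ℂ) (u : X ι F) : dl l u ∈ homog l := by
  intro c x
  by_cases h : ∃ d : Fˣ, x = scale d u
  · obtain ⟨d, rfl⟩ := h
    rw [scale_scale, dl_scale, dl_scale, map_mul]
  · push Not at h
    rw [dl_of_not l u x h, dl_of_not l u _ fun d hd => h (c⁻¹ * d) ?_, mul_zero]
    rw [← scale_scale, ← hd, scale_scale, inv_mul_cancel, scale_one]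

theorem finrank_homog (l : Fˣ →* ℂ) :
    Module.finrank ℂ (homog (ι := ι) l) = (reps F ι).card := by
  let e : homog (ι := ι) l ≃ₗ[ℂ] (reps F ι → ℂ) :=
    { toFun := fun φ r => φ.1 r
      map_add' := fun _ _ => rfl
      map_smul' := fun _ _ => rfl
      invFun := fun f => ⟨∑ r : reps F ι, f r • dl l r.1,
        Submodule.sum_mem _ fun r _ => Submodule.smul_mem _ _ (dl_mem_homog l _)⟩
      left_inv := fun φ => Subtype.ext (by
        conv_rhs => rw [eq_sum_dl φ.2]
        exact (Finset.sum_coe_sort (reps F ι) fun r => φ.1 r • dl l r))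
      right_inv := fun f => funext fun r => by
        change (∑ r' : reps F ι, f r' • dl l r'.1) r.1 = f r
        rw [Finset.sum_apply, Finset.sum_eq_single r]
        · rw [Pi.smul_apply, dl_self, smul_eq_mul, mul_one]
        · intro r' _ hne
          rw [Pi.smul_apply, dl_eq_zero_of_ne l r'.2 r.2 fun e => hne (Subtype.ext e.symm), smul_zero]
        · simp }
  rw [e.finrank_eq, Module.finrank_fintype_fun_eq_card, Fintype.card_coe]

/-- A non-constant invariant space of homogeneous functions has codimension at most one. -/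
theorem card_reps_le (h3 : 3 ≤ Fintype.card ι) (l : Fˣ →* ℂ) (W : Submodule ℂ (X ι F → ℂ))
    (hW : ∀ g, ∀ φ ∈ W, (fun x => φ (act g x)) ∈ W) (hl : W ≤ homog l)
    (hnc : ∃ φ ∈ W, ∃ x y, φ x ≠ φ y) : (reps F ι).card ≤ Module.finrank ℂ W + 1 := by
  classical
  rcases (reps F ι).eq_empty_or_nonempty with h | ⟨r₀, hr₀⟩
  · simp [h]
  have hmem := dl_sub_mem h3 l W hW hl hnc
  let v : ((reps F ι).erase r₀) → W := fun r =>
    ⟨dl l r.1 - dl l r₀,
      hmem _ _ (li_of_reps (Finset.mem_of_mem_erase r.2) hr₀ (Finset.ne_of_mem_erase r.2).symm)⟩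
  have hv : LinearIndependent ℂ v := by
    rw [Fintype.linearIndependent_iff]
    intro g hg r
    have h1 := congrFun (congrArg Subtype.val hg) r.1
    simp only [v, Submodule.coe_sum, Submodule.coe_smul, Finset.sum_apply, Pi.smul_apply,
      Pi.sub_apply, ZeroMemClass.coe_zero, Pi.zero_apply, smul_eq_mul] at h1
    rw [Finset.sum_eq_single r] at h1
    · rwa [dl_self, dl_eq_zero_of_ne l hr₀ (Finset.mem_of_mem_erase r.2)
        (Finset.ne_of_mem_erase r.2), sub_zero, mul_one] at h1
    · intro r' _ hne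
      rw [dl_eq_zero_of_ne l (Finset.mem_of_mem_erase r'.2) (Finset.mem_of_mem_erase r.2)
        (fun e => hne (Subtype.ext e.symm)), dl_eq_zero_of_ne l hr₀ (Finset.mem_of_mem_erase r.2)
        (Finset.ne_of_mem_erase r.2), sub_zero, mul_zero]
    · simp
  have := hv.fintype_card_le_finrank
  rw [Fintype.card_coe, Finset.card_erase_of_mem hr₀] at this
  omega

/-- Homogeneous functions for a non-trivial character form an irreducible module. -/
theorem eq_homog_of_ne_one (h3 : 3 ≤ Fintype.card ι) {l : Fˣ →* ℂ} (hl1 : l ≠ 1)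
    (W : Submodule ℂ (X ι F → ℂ)) (hW : ∀ g, ∀ φ ∈ W, (fun x => φ (act g x)) ∈ W)
    (hl : W ≤ homog l) (h0 : W ≠ ⊥) : W = homog l := by
  classical
  obtain ⟨c, hc⟩ : ∃ c, l c ≠ 1 := by
    by_contra hcon; push Not at hcon
    exact hl1 (MonoidHom.ext hcon)
  have hnc : ∃ φ ∈ W, ∃ x y, φ x ≠ φ y := by
    obtain ⟨φ, hφ, hφ0⟩ := Submodule.exists_mem_ne_zero_of_ne_bot h0
    obtain ⟨x, hx⟩ := Function.ne_iff.1 hφ0
    refine ⟨φ, hφ, scale c x, x, fun e => ?_⟩
    rw [hl hφ] at e
    exact hc (mul_right_cancel₀ hx (e.trans (one_mul _).symm))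
  have hmem := dl_sub_mem h3 l W hW hl hnc
  have hone : ∀ u : X ι F, dl l u ∈ W := by
    intro u
    obtain ⟨v, hv⟩ := exists_linearIndependent_pair_of_one_lt_finrank (R := F)
      (by rw [Module.finrank_fintype_fun_eq_card]; omega) u.2
    have hv0 : v ≠ 0 := by
      intro h
      have := LinearIndependent.pair_iff.1 hv 0 1 (by simp [h])
      exact one_ne_zero this.2
    let v' : X ι F := ⟨v, hv0⟩
    have h1 := hmem u v' hv
    have h2 := hmem (scale c u) v' (by
      rw [LinearIndependent.pair_iff]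
      intro s t hst
      simp only [scale, smul_smul] at hst
      obtain ⟨a, b⟩ := LinearIndependent.pair_iff.1 hv _ _ hst
      exact ⟨(mul_eq_zero.1 a).resolve_right c.ne_zero, b⟩)
    have e : dl l (scale c u) = (l c)⁻¹ • dl l u := by
      funext x
      by_cases h : ∃ d : Fˣ, x = scale d u
      · obtain ⟨d, rfl⟩ := h
        rw [Pi.smul_apply, dl_scale, show scale d u = scale (d * c⁻¹) (scale c u) by
          rw [scale_scale, inv_mul_cancel_right], dl_scale, smul_eq_mul, map_mul, mul_comm]
        congr 1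
        exact eq_inv_of_mul_eq_one_left (by rw [← map_mul, inv_mul_cancel, map_one])
      · push Not at h
        rw [Pi.smul_apply, dl_of_not l u x h, smul_zero,
          dl_of_not l _ x fun d hd => h (d * c) (by rw [hd, scale_scale])]
    have h4 := W.sub_mem h1 h2
    rw [sub_sub_sub_cancel_right, e] at h4
    have h5 : (1 - (l c)⁻¹) • dl l u ∈ W := by rwa [sub_smul, one_smul]
    have hne : 1 - (l c)⁻¹ ≠ 0 := sub_ne_zero.2 fun e => hc (inv_eq_one.1 e.symm)
    simpa [smul_smul, inv_mul_cancel₀ hne] using W.smul_mem (1 - (l c)⁻¹)⁻¹ h5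
  refine le_antisymm hl fun φ hφ => ?_
  rw [eq_sum_dl hφ]
  exact W.sum_mem fun r _ => W.smul_mem _ (hone r)

/-- Homogeneous functions of total zero. -/
noncomputable def homog0 (F : Type*) [Field F] [Fintype F] [DecidableEq F] (ι : Type) [Fintype ι]
    [DecidableEq ι] : Submodule ℂ (X ι F → ℂ) :=
  homog 1 ⊓ LinearMap.ker (∑ r ∈ reps F ι, LinearMap.proj r)

theorem mem_homog0 {φ : X ι F → ℂ} :
    φ ∈ homog0 F ι ↔ φ ∈ homog 1 ∧ ∑ r ∈ reps F ι, φ r = 0 := by
  simp [homog0, LinearMap.mem_ker]

theorem finrank_homog0 (hne : (reps F ι).Nonempty) :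
    Module.finrank ℂ (homog0 F ι) + 1 = (reps F ι).card := by
  classical
  let t : homog (ι := ι) (1 : Fˣ →* ℂ) →ₗ[ℂ] ℂ :=
    (∑ r ∈ reps F ι, LinearMap.proj r) ∘ₗ (homog 1).subtype
  have ht : Function.Surjective t := by
    intro a
    obtain ⟨r₀, hr₀⟩ := hne
    refine ⟨⟨a • dl 1 r₀, Submodule.smul_mem _ _ (dl_mem_homog _ _)⟩, ?_⟩
    simp only [t, LinearMap.comp_apply, Submodule.subtype_apply, LinearMap.sum_apply,
      LinearMap.proj_apply, Pi.smul_apply, smul_eq_mul]
    rw [Finset.sum_eq_single r₀]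
    · rw [dl_self, mul_one]
    · intro r hr h; rw [dl_eq_zero_of_ne 1 hr₀ hr h, mul_zero]
    · exact fun h => absurd hr₀ h
  have h := t.finrank_range_add_finrank_ker
  rw [LinearMap.range_eq_top.2 ht, finrank_top, Module.finrank_self, finrank_homog] at h
  have e : Module.finrank ℂ (LinearMap.ker t) = Module.finrank ℂ (homog0 F ι) := by
    refine LinearEquiv.finrank_eq
      { toFun := fun φ => ⟨φ.1.1, φ.1.2, φ.2⟩
        map_add' := fun _ _ => rfl
        map_smul' := fun _ _ => rfl
        invFun := fun φ => ⟨⟨φ.1, φ.2.1⟩, φ.2.2⟩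
        left_inv := fun _ => rfl
        right_inv := fun _ => rfl }
  omega

/-- The homogeneous functions of total zero form an irreducible module. -/
theorem eq_homog0 (h3 : 3 ≤ Fintype.card ι) (W : Submodule ℂ (X ι F → ℂ))
    (hW : ∀ g, ∀ φ ∈ W, (fun x => φ (act g x)) ∈ W) (hl : W ≤ homog0 F ι) (h0 : W ≠ ⊥) :
    W = homog0 F ι := by
  classical
  have hnc : ∃ φ ∈ W, ∃ x y, φ x ≠ φ y := by
    obtain ⟨φ, hφ, hφ0⟩ := Submodule.exists_mem_ne_zero_of_ne_bot h0
    refine ⟨φ, hφ, ?_⟩
    by_contra hcon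
    push Not at hcon
    obtain ⟨x, hx⟩ := Function.ne_iff.1 hφ0
    have h1 := (mem_homog0.1 (hl hφ)).2
    rw [Finset.sum_congr rfl fun r _ => hcon r x, Finset.sum_const, nsmul_eq_mul] at h1
    obtain ⟨r, hr, -⟩ := exists_rep x
    rcases mul_eq_zero.1 h1 with h | h
    · exact Finset.ne_empty_of_mem hr (Finset.card_eq_zero.1 (by exact_mod_cast h))
    · exact hx h
  have hmem := dl_sub_mem h3 1 W hW (hl.trans inf_le_left) hnc
  refine le_antisymm hl fun φ hφ => ?_
  obtain ⟨h1, h2⟩ := mem_homog0.1 hφ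
  rcases (reps F ι).eq_empty_or_nonempty with h | ⟨r₀, hr₀⟩
  · rw [eq_sum_dl h1, h, Finset.sum_empty]; exact W.zero_mem
  have : φ = ∑ r ∈ (reps F ι).erase r₀, φ r • (dl 1 r - dl 1 r₀) := by
    have h3 := Finset.add_sum_erase (reps F ι) (fun r => φ r) hr₀
    rw [h2] at h3
    have h5 : φ r₀ = -∑ r ∈ (reps F ι).erase r₀, φ r := eq_neg_of_add_eq_zero_left h3
    conv_lhs => rw [eq_sum_dl h1, ← Finset.add_sum_erase _ _ hr₀]
    simp only [smul_sub, Finset.sum_sub_distrib, ← Finset.sum_smul]
    rw [h5, neg_smul]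
    abel
  rw [this]
  exact W.sum_mem fun r hr => W.smul_mem _ (hmem _ _ (li_of_reps (Finset.mem_of_mem_erase hr) hr₀
    (Finset.ne_of_mem_erase hr).symm))

/-- A representation with a vector fixed by the stabiliser of a non-zero vector but not by the
whole group has degree at least (number of lines) `- 1`. -/
theorem card_reps_le_of_fixed (h3 : 3 ≤ Fintype.card ι) {V : Type*} [AddCommGroup V] [Module ℂ V]
    [FiniteDimensional ℂ V] (ρ : Representation ℂ (SpecialLinearGroup ι F) V) (e : X ι F) (v : V)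
    (hfix : ∀ g, act g e = e → ρ g v = v) (hnot : ∃ g, ρ g v ≠ v) :
    (reps F ι).card ≤ Module.finrank ℂ V + 1 := by
  classical
  choose gx hgx using fun x : X ι F => exists_act_eq h3 e x
  set vx : X ι F → V := fun x => ρ (gx x) v with hvx
  have hact : ∀ g x, ρ g (vx x) = vx (act g x) := by
    intro g x
    have h1 : act ((gx (act g x))⁻¹ * (g * gx x)) e = e := by
      rw [act_mul, act_mul, hgx]
      have h0 := congrArg (act (gx (act g x))⁻¹) (hgx (act g x))
      rw [← act_mul, inv_mul_cancel, act_one] at h0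
      exact h0.symm
    have h2 := hfix _ h1
    rw [map_mul, Module.End.mul_apply] at h2
    have h4 := congrArg (ρ (gx (act g x))) h2
    rw [← Module.End.mul_apply, ← map_mul, mul_inv_cancel, map_one, Module.End.one_apply] at h4
    simpa [hvx, map_mul] using h4
  have hve : vx e = v := hfix _ (hgx e)
  let : Fintype (MulChar F ℂ) := Fintype.ofFinite _
  have horth : ∀ c : Fˣ, c ≠ 1 → ∑ χ : MulChar F ℂ, χ (c : F) = 0 := by
    intro c hc
    obtain ⟨χ₀, hχ₀⟩ := MulChar.exists_apply_ne_one_of_hasEnoughRootsOfUnity F ℂ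
      (a := (c : F)) (fun h => hc (Units.ext h))
    have h1 : χ₀ (c : F) * ∑ χ : MulChar F ℂ, χ (c : F) = ∑ χ : MulChar F ℂ, χ (c : F) := by
      rw [Finset.mul_sum]
      exact Fintype.sum_equiv (Equiv.mulLeft χ₀) _ _ fun χ => by simp
    by_contra h0
    exact hχ₀ (mul_right_cancel₀ h0 (h1.trans (one_mul _).symm))
  let lh : MulChar F ℂ → (Fˣ →* ℂ) := fun χ =>
    { toFun := fun c => χ (c : F)
      map_one' := by simp
      map_mul' := fun a b => by simp }
  let u : MulChar F ℂ → X ι F → V := fun χ x => ∑ c : Fˣ, χ ((c⁻¹ : Fˣ) : F) • vx (scale c x)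
  have hu : ∀ χ g x, ρ g (u χ x) = u χ (act g x) := by
    intro χ g x
    simp [u, map_sum, hact, scale_act]
  have hhom : ∀ χ (d : Fˣ) x, u χ (scale d x) = χ (d : F) • u χ x := by
    intro χ d x
    simp only [u, Finset.smul_sum, smul_smul, scale_scale]
    refine Fintype.sum_equiv (Equiv.mulRight d) _ _ fun c => ?_
    simp only [Equiv.coe_mulRight, ← map_mul, ← Units.val_mul, _root_.mul_inv_rev, ← mul_assoc,
      mul_inv_cancel, one_mul]
  obtain ⟨χ, hχ⟩ : ∃ χ, ∃ g, ρ g (u χ e) ≠ u χ e := by
    by_contra hcon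
    push Not at hcon
    obtain ⟨g, hg⟩ := hnot
    refine hg ?_
    have hsum : ∑ χ, u χ e = (Fintype.card (MulChar F ℂ) : ℂ) • v := by
      simp only [u]
      rw [Finset.sum_comm, Finset.sum_eq_single 1]
      · simp [scale_one, hve, Nat.cast_smul_eq_nsmul]
      · intro c _ hc
        rw [← Finset.sum_smul, horth _ (inv_ne_one.2 hc), zero_smul]
      · simp
    have h1 := congrArg (ρ g) hsum
    simp only [map_sum, hcon, map_smul] at h1
    rw [hsum] at h1
    exact (smul_right_injective V (by exact_mod_cast Fintype.card_ne_zero) h1).symm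
  let φ : Module.Dual ℂ V →ₗ[ℂ] (X ι F → ℂ) :=
    LinearMap.pi fun x => LinearMap.applyₗ (u χ x)
  have h1 := card_reps_le h3 (lh χ) (LinearMap.range φ) (by
      rintro g _ ⟨f, rfl⟩
      refine ⟨f.comp (ρ g), funext fun x => ?_⟩
      simp [φ, hu]) (by
      rintro _ ⟨f, rfl⟩ d x
      simp [φ, hhom, lh]) (by
      obtain ⟨g, hg⟩ := hχ
      obtain ⟨f, hf⟩ : ∃ f : Module.Dual ℂ V, f (ρ g (u χ e) - u χ e) ≠ 0 := by
        by_contra h; push Not at h
        exact hg (sub_eq_zero.1 ((Module.forall_dual_apply_eq_zero_iff ℂ _).1 h))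
      refine ⟨φ f, ⟨f, rfl⟩, act g e, e, fun h => hf ?_⟩
      simp only [φ, LinearMap.pi_apply, LinearMap.applyₗ_apply_apply] at h
      rw [map_sub, hu, h, sub_self])
  have h2 := LinearMap.finrank_range_le φ
  rw [Subspace.dual_finrank_eq] at h2
  omega

end CfsgLib.InvCentralizers.PermModule
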