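import Mathlib
import Cfsg.Agent.Lib.InvCentralizers.EigenTrace
import Cfsg.Agent.Lib.InvCentralizers.SympBound
import Cfsg.Agent.Lib.InvCentralizers.PermModule
import Cfsg.Agent.Lib.ClassicalLinear.Generation

/-!
Representations of the special linear group restricted to the stabiliser of a vector: the
eigenspaces of its abelian normal subgroup and what they say about transvections.
-/

set_option autoImplicit false
set_option linter.unusedSectionVars false

namespace CfsgLib.InvCentralizers.SLParabolic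

open Matrix
open CfsgLib.InvCentralizers.SympBound (psi exists_psi_ne)
open CfsgLib.InvCentralizers.AbelianEigen

variable {F : Type*} [Field F] {ι : Type} [Fintype ι] [DecidableEq ι]

/-- The special linear group is transitive on non-zero vectors in dimension at least two. -/
theorem exists_sl_mulVec (h2 : 2 ≤ Fintype.card ι) {c c' : ι → F} (hc : c ≠ 0) (hc' : c' ≠ 0) :
    ∃ g : SpecialLinearGroup ι F, (g : Matrix ι ι F) *ᵥ c = c' := by
  classical
  have step : ∀ a b : ι → F, LinearIndependent F ![a, b] →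
      ∃ g : SpecialLinearGroup ι F, (g : Matrix ι ι F) *ᵥ a = b := by
    intro a b hab
    have hba : a ∉ Submodule.span F {b - a} := by
      intro h
      obtain ⟨t, ht⟩ := Submodule.mem_span_singleton.1 h
      have h1 := (LinearIndependent.pair_iff.1 hab) (-t - 1) t (by
        rw [sub_smul, neg_smul, one_smul]
        rw [smul_sub] at ht
        linear_combination (norm := abel) ht)
      simp [h1.2] at h1
    obtain ⟨θ, hθa, hθ⟩ := Submodule.exists_dual_map_eq_bot_of_notMem hba inferInstance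
    have hθ' : θ (b - a) = 0 := by
      have h1 : θ (b - a) ∈ Submodule.map θ (Submodule.span F {b - a}) :=
        Submodule.mem_map_of_mem (Submodule.mem_span_singleton_self _)
      rwa [hθ, Submodule.mem_bot] at h1
    set θv : ι → F := fun i => (θ a)⁻¹ * θ (Pi.single i 1) with hθv
    have hdot : ∀ x, θv ⬝ᵥ x = (θ a)⁻¹ * θ x := by
      intro x
      conv_rhs => rw [pi_eq_sum_univ' x]
      simp only [map_sum, map_smul, dotProduct, hθv, smul_eq_mul, Finset.mul_sum]
      exact Finset.sum_congr rfl fun i _ => by ring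
    refine ⟨⟨1 + vecMulVec (b - a) θv, ?_⟩, ?_⟩
    · rw [vecMulVec_eq Unit, det_one_add_replicateCol_mul_replicateRow, hdot, hθ', mul_zero,
        add_zero]
    · change (1 + vecMulVec (b - a) θv) *ᵥ a = b
      rw [add_mulVec, one_mulVec, vecMulVec_mulVec, hdot, inv_mul_cancel₀ hθa]
      simp
  by_cases h : LinearIndependent F ![c, c']
  · exact step c c' h
  obtain ⟨z, hz⟩ := exists_linearIndependent_pair_of_one_lt_finrank (R := F)
    (by rw [Module.finrank_fintype_fun_eq_card]; omega) hc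
  rw [LinearIndependent.pair_iff' hc] at h
  push Not at h
  obtain ⟨t, ht⟩ := h
  have ht0 : t ≠ 0 := by rintro rfl; exact hc' (by simpa using ht.symm)
  have hz' : LinearIndependent F ![z, c'] := by
    rw [LinearIndependent.pair_iff]
    intro u v huv
    have h1 := LinearIndependent.pair_iff.1 hz (v * t) u (by
      rw [mul_smul, ht, add_comm]; exact huv)
    exact ⟨h1.2, (mul_eq_zero.1 h1.1).resolve_right ht0⟩
  obtain ⟨g₁, hg₁⟩ := step c z hz
  obtain ⟨g₂, hg₂⟩ := step z c' hz'
  exact ⟨g₂ * g₁, by rw [Matrix.SpecialLinearGroup.coe_mul, ← mulVec_mulVec, hg₁, hg₂]⟩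

variable {k : ℕ}

/-- The abelian normal subgroup. -/
def qRow (b : Fin k → F) : SpecialLinearGroup (Fin 1 ⊕ Fin k) F :=
  ⟨fromBlocks 1 (of fun _ j => b j) 0 1, by rw [det_fromBlocks_zero₂₁, det_one, det_one, mul_one]⟩

theorem qRow_zero : qRow (0 : Fin k → F) = 1 := by
  apply Subtype.ext
  change fromBlocks 1 (of fun _ j => (0 : Fin k → F) j) 0 1 = 1
  conv_rhs => rw [← fromBlocks_one]
  congr 1

theorem qRow_add (b b' : Fin k → F) : qRow (b + b') = qRow b * qRow b' := by
  apply Subtype.ext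
  change fromBlocks _ _ _ _ = fromBlocks _ _ _ _ * fromBlocks _ _ _ _
  rw [fromBlocks_multiply]
  congr 1
  · simp
  · ext i j; simp [add_comm]
  · simp
  · simp

/-- The Levi complement. -/
def lev : GL (Fin k) F →* SpecialLinearGroup (Fin 1 ⊕ Fin k) F where
  toFun A := ⟨fromBlocks ((A.val.det)⁻¹ • 1) 0 0 A.val, by
    rw [det_fromBlocks_zero₂₁, det_smul, det_one, mul_one, Fintype.card_fin, pow_one,
      inv_mul_cancel₀ ((Matrix.isUnit_iff_isUnit_det _).1 A.isUnit).ne_zero]⟩
  map_one' := by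
    apply Subtype.ext
    change fromBlocks _ _ _ _ = (1 : Matrix (Fin 1 ⊕ Fin k) (Fin 1 ⊕ Fin k) F)
    simp
  map_mul' A B := by
    apply Subtype.ext
    change fromBlocks _ _ _ _ = fromBlocks _ _ _ _ * fromBlocks _ _ _ _
    rw [fromBlocks_multiply]
    simp [det_mul, smul_smul, mul_comm]

/-- The Levi complement restricted to the special linear group. -/
def levS : SpecialLinearGroup (Fin k) F →* SpecialLinearGroup (Fin 1 ⊕ Fin k) F :=
  lev.comp SpecialLinearGroup.toGL

/-- The action of the Levi complement on the characters. -/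
def tw (A : GL (Fin k) F) (c : Fin k → F) : Fin k → F := A.val.det • (A.val *ᵥ c)

theorem tw_mul (A B : GL (Fin k) F) (c : Fin k → F) : tw (A * B) c = tw A (tw B c) := by
  simp [tw, mulVec_smul, mulVec_mulVec, smul_smul, det_mul]

theorem tw_one (c : Fin k → F) : tw 1 c = c := by simp [tw]

theorem tw_toGL (g : SpecialLinearGroup (Fin k) F) (c : Fin k → F) :
    tw (SpecialLinearGroup.toGL g) c = (g : Matrix (Fin k) (Fin k) F) *ᵥ c := by
  change (g : Matrix (Fin k) (Fin k) F).det • ((g : Matrix (Fin k) (Fin k) F) *ᵥ c) = _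
  rw [g.2, one_smul]

theorem qRow_mul_lev (A : GL (Fin k) F) (b : Fin k → F) :
    qRow b * lev A = lev A * qRow (A.val.det • (b ᵥ* A.val)) := by
  have hd : A.val.det ≠ 0 := ((Matrix.isUnit_iff_isUnit_det _).1 A.isUnit).ne_zero
  apply Subtype.ext
  change fromBlocks _ _ _ _ * fromBlocks _ _ _ _ = fromBlocks _ _ _ _ * fromBlocks _ _ _ _
  rw [fromBlocks_multiply, fromBlocks_multiply]
  congr 1
  · simp
  · ext i j
    fin_cases i
    simp [mul_apply, vecMul, dotProduct, hd]
  · simp
  · simp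

/-- The transvection with centre `u` and axis `φ`. -/
def tv (u φ : ι → F) (h : φ ⬝ᵥ u = 0) : SpecialLinearGroup ι F :=
  ⟨1 + vecMulVec u φ, by
    rw [vecMulVec_eq Unit, det_one_add_replicateCol_mul_replicateRow, h, add_zero]⟩

theorem tv_conj (g : SpecialLinearGroup ι F) (u φ : ι → F) (h : φ ⬝ᵥ u = 0) :
    g * tv u φ h * g⁻¹ =
      tv ((g : Matrix ι ι F) *ᵥ u) (φ ᵥ* ((g⁻¹ : SpecialLinearGroup ι F) : Matrix ι ι F)) (by
        rw [← dotProduct_mulVec, mulVec_mulVec, ← Matrix.SpecialLinearGroup.coe_mul,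
          inv_mul_cancel, Matrix.SpecialLinearGroup.coe_one, one_mulVec, h]) := by
  apply Subtype.ext
  change (g : Matrix ι ι F) * (1 + vecMulVec u φ) * ((g⁻¹ : SpecialLinearGroup ι F) : Matrix ι ι F) = 1 + _
  rw [mul_add, add_mul, mul_one, mul_vecMulVec, vecMulVec_mul, ← Matrix.SpecialLinearGroup.coe_mul,
    mul_inv_cancel, Matrix.SpecialLinearGroup.coe_one]

/-- The first basis vector. -/
def e0 : Fin 1 ⊕ Fin k → F := Pi.single (Sum.inl 0) 1

theorem qRow_eq_tv (b : Fin k → F) : qRow b = tv (e0 : Fin 1 ⊕ Fin k → F) (Sum.elim 0 b)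
    (by simp [e0]) := by
  apply Subtype.ext
  change fromBlocks 1 (of fun _ j => b j) 0 1 = 1 + vecMulVec e0 (Sum.elim 0 b)
  ext (i | i) (j | j)
  · fin_cases i; fin_cases j; simp [e0, vecMulVec_apply]
  · fin_cases i; simp [e0, vecMulVec_apply]
  · simp [e0, vecMulVec_apply]
  · simp [e0, vecMulVec_apply, Matrix.one_apply]

/-- Every transvection is conjugate to an element of the abelian subgroup. -/
theorem tv_eq_conj (u φ : Fin 1 ⊕ Fin k → F) (h : φ ⬝ᵥ u = 0) (hφ : φ ≠ 0)
    (g : SpecialLinearGroup (Fin 1 ⊕ Fin k) F) (a : F) (ha : a ≠ 0)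
    (hg : (g : Matrix (Fin 1 ⊕ Fin k) (Fin 1 ⊕ Fin k) F) *ᵥ e0 = a • u) :
    ∃ b : Fin k → F, b ≠ 0 ∧ tv u φ h = g * qRow b * g⁻¹ := by
  set φ' : Fin 1 ⊕ Fin k → F := a⁻¹ • (φ ᵥ* (g : Matrix (Fin 1 ⊕ Fin k) (Fin 1 ⊕ Fin k) F)) with hφ'
  have h0 : φ' ⬝ᵥ e0 = 0 := by
    rw [hφ', smul_dotProduct, ← dotProduct_mulVec, hg, dotProduct_smul, h, smul_zero, smul_zero]
  have h00 : φ' (Sum.inl 0) = 0 := by simpa [e0] using h0
  set b : Fin k → F := fun j => φ' (Sum.inr j)
  have hb : (Sum.elim 0 b : Fin 1 ⊕ Fin k → F) = φ' := by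
    funext x
    rcases x with x | x
    · fin_cases x; exact h00.symm
    · rfl
  have hinv : φ' ᵥ* ((g⁻¹ : SpecialLinearGroup (Fin 1 ⊕ Fin k) F) :
      Matrix (Fin 1 ⊕ Fin k) (Fin 1 ⊕ Fin k) F) = a⁻¹ • φ := by
    rw [hφ', smul_vecMul, vecMul_vecMul, ← Matrix.SpecialLinearGroup.coe_mul, mul_inv_cancel,
      Matrix.SpecialLinearGroup.coe_one, vecMul_one]
  refine ⟨b, fun hb0 => hφ ?_, ?_⟩
  · have e1 : φ' = 0 := by
      rw [← hb, hb0]; funext x; rcases x with x | x <;> rfl
    have e2 := hinv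
    rw [e1, zero_vecMul] at e2
    exact (smul_eq_zero.1 e2.symm).resolve_left (inv_ne_zero ha)
  · rw [qRow_eq_tv, tv_conj]
    apply Subtype.ext
    change 1 + vecMulVec u φ = 1 + vecMulVec _ _
    rw [hb, hinv, hg, smul_vecMulVec, vecMulVec_smul, smul_smul, mul_inv_cancel₀ ha, one_smul]

theorem transvection_eq_tv {i j : ι} (hij : i ≠ j) (b : F) :
    SpecialLinearGroup.transvection hij b =
      tv (Pi.single i 1) (Pi.single j b) (by simp [hij]) := by
  apply Subtype.ext
  change 1 + Matrix.single i j b = 1 + _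
  congr 1
  ext x y
  simp [vecMulVec_apply, Matrix.single_apply, Pi.single_apply, eq_comm (a := i), eq_comm (a := j), ite_and]
  split_ifs <;> rfl

variable [Fintype F] [DecidableEq F] {V : Type} [AddCommGroup V] [Module ℂ V]
  (ρ : Representation ℂ (SpecialLinearGroup (Fin 1 ⊕ Fin k) F) V)

/-- The pairing. -/
noncomputable def PP (c b : Fin k → F) : ℂ := psi F (b ⬝ᵥ c)

/-- The operators of the abelian subgroup. -/
def UU (b : Fin k → F) : Module.End ℂ V := ρ (qRow b)

theorem setup : Setup (PP (F := F) (k := k)) (UU ρ) where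
  addL c c' b := by simp [PP, dotProduct_add, AddChar.map_add_eq_mul]
  addR c b b' := by simp [PP, add_dotProduct, AddChar.map_add_eq_mul]
  zeroL b := by simp [PP]
  zeroR c := by simp [PP]
  orth c hc := by
    let χ : AddChar (Fin k → F) ℂ :=
      { toFun := fun b => psi F (b ⬝ᵥ c)
        map_zero_eq_one' := by simp
        map_add_eq_mul' := fun a b => by simp [add_dotProduct, AddChar.map_add_eq_mul] }
    refine AddChar.sum_eq_zero_of_ne_one (ψ := χ) fun h => ?_
    obtain ⟨i, hi⟩ := Function.ne_iff.1 hc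
    obtain ⟨t, ht⟩ := exists_psi_ne (F := F) hi
    refine ht ?_
    have := DFunLike.congr_fun h (Pi.single i t)
    simpa [χ, mul_comm] using this
  orth' b hb := by
    let χ : AddChar (Fin k → F) ℂ :=
      { toFun := fun c => psi F (b ⬝ᵥ c)
        map_zero_eq_one' := by simp
        map_add_eq_mul' := fun a c => by simp [dotProduct_add, AddChar.map_add_eq_mul] }
    refine AddChar.sum_eq_zero_of_ne_one (ψ := χ) fun h => ?_
    obtain ⟨i, hi⟩ := Function.ne_iff.1 hb
    obtain ⟨t, ht⟩ := exists_psi_ne (F := F) hi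
    refine ht ?_
    have := DFunLike.congr_fun h (Pi.single i t)
    simpa [χ, mul_comm] using this
  map_zero := by simp [UU, qRow_zero]
  map_add b b' := by simp [UU, qRow_add]

/-- The eigenspace of a character. -/
noncomputable abbrev eigc (c : Fin k → F) : Submodule ℂ V := eig PP (UU ρ) c

theorem lev_mem (A : GL (Fin k) F) {c : Fin k → F} {w : V} (hw : w ∈ eigc ρ c) :
    ρ (lev A) w ∈ eigc ρ (tw A c) := by
  intro b
  change ρ (qRow b) (ρ (lev A) w) = _
  rw [← Module.End.mul_apply, ← map_mul, qRow_mul_lev, map_mul, Module.End.mul_apply]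
  change ρ (lev A) (UU ρ _ w) = _
  rw [hw, map_smul]
  congr 1
  simp [PP, tw, smul_dotProduct, dotProduct_smul, dotProduct_mulVec]

theorem finrank_eig_tw [FiniteDimensional ℂ V] (A : GL (Fin k) F) (c : Fin k → F) :
    Module.finrank ℂ (eigc ρ (tw A c)) = Module.finrank ℂ (eigc ρ c) := by
  have key : ∀ (B : GL (Fin k) F) (d : Fin k → F),
      Module.finrank ℂ (eigc ρ d) ≤ Module.finrank ℂ (eigc ρ (tw B d)) := by
    intro B d
    refine LinearMap.finrank_le_finrank_of_injective
      (f := (ρ (lev B)).restrict fun w hw => lev_mem ρ B (c := d) hw) ?_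
    intro x y hxy
    apply Subtype.ext
    have h : ρ (lev B) x.1 = ρ (lev B) y.1 := congrArg Subtype.val hxy
    have h2 := congrArg (ρ (lev B)⁻¹) h
    simpa [← Module.End.mul_apply, ← map_mul] using h2
  refine le_antisymm ?_ (key A c)
  have := key A⁻¹ (tw A c)
  rwa [← tw_mul, inv_mul_cancel, tw_one] at this

/-- Transitivity of the Levi complement on the non-trivial characters. -/
def Trans (F : Type*) [Field F] (k : ℕ) : Prop :=
  ∀ c c' : Fin k → F, c ≠ 0 → c' ≠ 0 → ∃ A : GL (Fin k) F, tw A c = c'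

theorem trans_of_two_le (hk : 2 ≤ k) : Trans F k := by
  intro c c' hc hc'
  obtain ⟨g, hg⟩ := exists_sl_mulVec (by simpa using hk) hc hc'
  exact ⟨SpecialLinearGroup.toGL g, by rw [tw_toGL, hg]⟩

theorem trans_one_of_isSquare (h : ∀ x : F, IsSquare x) : Trans F 1 := by
  intro c c' hc hc'
  have hne : ∀ d : Fin 1 → F, d ≠ 0 → d 0 ≠ 0 := fun d hd h0 => hd (by
    funext i; fin_cases i; exact h0)
  obtain ⟨a, ha⟩ := h (c' 0 / c 0)
  have ha0 : a ≠ 0 := by
    rintro rfl
    simp [hne c hc, hne c' hc'] at ha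
  refine ⟨GeneralLinearGroup.mkOfDetNeZero (diagonal fun _ => a) (by simp [ha0]), ?_⟩
  funext i
  fin_cases i
  change (((diagonal fun _ : Fin 1 => a).det) • ((diagonal fun _ : Fin 1 => a) *ᵥ c)) 0 = c' 0
  simp only [det_diagonal, Pi.smul_apply, mulVec_diagonal, smul_eq_mul, Finset.prod_const,
    Finset.card_univ, Fintype.card_fin, pow_one]
  rw [← mul_assoc, ← ha, div_mul_cancel₀ _ (hne c hc)]

/-- The common dimension of the non-trivial eigenspaces and the shape of the character. -/
theorem structure_of_trans [FiniteDimensional ℂ V] (hk : 1 ≤ k) (htr : Trans F k) :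
    ∃ m : ℕ, (∀ c, c ≠ 0 → Module.finrank ℂ (eigc ρ c) = m) ∧
      Module.finrank ℂ V + m =
        Module.finrank ℂ (eigc ρ 0) + m * Fintype.card F ^ k ∧
      ∀ b, b ≠ 0 → ρ.character (qRow b) + (m : ℂ) = (Module.finrank ℂ (eigc ρ 0) : ℂ) := by
  classical
  have hcard : (Finset.univ : Finset (Fin k → F)).card = Fintype.card F ^ k := by simp
  set c₁ : Fin k → F := Pi.single ⟨0, hk⟩ 1
  have hc₁ : c₁ ≠ 0 := by simp [c₁]
  refine ⟨Module.finrank ℂ (eigc ρ c₁), fun c hc => ?_, ?_, fun b hb => ?_⟩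
  · obtain ⟨A, hA⟩ := htr c₁ c hc₁ hc
    rw [← hA, finrank_eig_tw]
  all_goals
    have hd : ∀ c, c ≠ 0 → Module.finrank ℂ (eigc ρ c) = Module.finrank ℂ (eigc ρ c₁) := by
      intro c hc
      obtain ⟨A, hA⟩ := htr c₁ c hc₁ hc
      rw [← hA, finrank_eig_tw]
  · rw [finrank_eq_sum (setup ρ), ← Finset.add_sum_erase _ _ (Finset.mem_univ (0 : Fin k → F)),
      Finset.sum_congr rfl fun c hc => hd c (Finset.mem_erase.1 hc).1, Finset.sum_const,
      smul_eq_mul, add_assoc]
    congr 1
    have h1 := Finset.card_erase_add_one (Finset.mem_univ (0 : Fin k → F))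
    rw [hcard] at h1
    rw [← h1]
    ring
  · have h1 : ρ.character (qRow b) = _ := trace_U (setup ρ) b
    have h2 := (setup ρ).orth' b hb
    rw [← Finset.add_sum_erase _ _ (Finset.mem_univ (0 : Fin k → F))] at h1 h2
    rw [h1, Finset.sum_congr rfl fun c hc => by rw [hd c (Finset.mem_erase.1 hc).1],
      ← Finset.sum_mul, (setup ρ).zeroL, eq_neg_of_add_eq_zero_right h2, (setup ρ).zeroL]
    ring

/-- The kernel is everything as soon as it contains the abelian subgroup. -/
theorem eq_one_of_qRow (hk : 1 ≤ k) (h : ∀ b, ρ (qRow b) = 1)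
    (g : SpecialLinearGroup (Fin 1 ⊕ Fin k) F) : ρ g = 1 := by
  refine CfsgLib.ClassicalLinear.transvection_induction (P := fun g => ρ g = 1) (map_one ρ) ?_
    (fun A B hA hB => by rw [map_mul, hA, hB, mul_one]) g
  intro i j hij c
  by_cases hc : c = 0
  · subst hc
    have : SpecialLinearGroup.transvection hij (0 : F) = 1 := by
      apply Subtype.ext; simp [SpecialLinearGroup.transvection]
    rw [this, map_one]
  obtain ⟨g, hg⟩ := exists_sl_mulVec (ι := Fin 1 ⊕ Fin k) (F := F)
    (by simp; omega) (c := e0) (c' := Pi.single i 1) (by simp [e0]) (by simp)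
  obtain ⟨b, -, hb⟩ := tv_eq_conj (Pi.single i 1) (Pi.single j c) (by simp [hij]) (by simp [hc])
    g 1 one_ne_zero (by rw [hg, one_smul])
  rw [transvection_eq_tv, hb, map_mul, map_mul, h, mul_one, ← map_mul, mul_inv_cancel, map_one]

theorem one_le_of_nontrivial [FiniteDimensional ℂ V] (hk : 1 ≤ k) (hρ : ∃ g, ρ g ≠ 1) (m : ℕ)
    (hm : ∀ c, c ≠ 0 → Module.finrank ℂ (eigc ρ c) = m) : 1 ≤ m := by
  obtain ⟨g, hg⟩ := hρ
  have hne : ∃ b, UU ρ b ≠ 1 := by
    by_contra hcon
    push Not at hcon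
    exact hg (eq_one_of_qRow ρ hk hcon g)
  obtain ⟨c, hc, w, hw, hw0⟩ := exists_eig (setup ρ) hne
  by_contra h0
  have h1 : Module.finrank ℂ (eigc ρ c) = 0 := by rw [hm c hc]; omega
  rw [Submodule.finrank_eq_zero] at h1
  rw [show eig PP (UU ρ) c = ⊥ from h1, Submodule.mem_bot] at hw
  exact hw0 hw

/-- A small representation is trivial. -/
theorem eq_one_of_small [FiniteDimensional ℂ V] (hk : 1 ≤ k) (htr : Trans F k)
    (hsmall : Module.finrank ℂ V + 1 < Fintype.card F ^ k)
    (g : SpecialLinearGroup (Fin 1 ⊕ Fin k) F) : ρ g = 1 := by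
  by_contra hg
  obtain ⟨m, hm, hdim, -⟩ := structure_of_trans ρ hk htr
  have hm1 := one_le_of_nontrivial ρ hk ⟨g, hg⟩ m hm
  have : Fintype.card F ^ k ≤ m * Fintype.card F ^ k := Nat.le_mul_of_pos_left _ hm1
  rcases Nat.lt_or_ge m 2 with h | h
  · interval_cases m
    omega
  · obtain ⟨p, rfl⟩ : ∃ p, m = p + 1 := ⟨m - 1, by omega⟩
    have h3 : 1 ≤ Fintype.card F ^ k := Nat.one_le_pow _ _ Fintype.card_pos
    have h4 : p ≤ p * Fintype.card F ^ k := Nat.le_mul_of_pos_right _ h3
    rw [add_mul, one_mul] at hdim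
    omega

theorem commutator_fix [FiniteDimensional ℂ V] {c : Fin k → F}
    (h1 : Module.finrank ℂ (eigc ρ c) = 1) {A B : GL (Fin k) F} (hA : tw A c = c) (hB : tw B c = c)
    {w : V} (hw : w ∈ eigc ρ c) :
    ρ (lev (A * B)) w = ρ (lev (B * A)) w := by
  obtain ⟨w₀, -, hspan⟩ := finrank_eq_one_iff'.1 h1
  have key : ∀ A : GL (Fin k) F, tw A c = c →
      ∃ a : ℂ, ∀ v ∈ eigc ρ c, ρ (lev A) v = a • v := by
    intro A hA
    have hm : ρ (lev A) w₀.1 ∈ eigc ρ c := by simpa [hA] using lev_mem ρ A w₀.2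
    obtain ⟨a, ha⟩ := hspan ⟨_, hm⟩
    refine ⟨a, fun v hv => ?_⟩
    obtain ⟨b, hb⟩ := hspan ⟨v, hv⟩
    have hb' : b • w₀.1 = v := congrArg Subtype.val hb
    have ha' : a • w₀.1 = ρ (lev A) w₀.1 := congrArg Subtype.val ha
    rw [← hb', map_smul, ← ha', smul_comm]
  obtain ⟨a, ha⟩ := key A hA
  obtain ⟨b, hb⟩ := key B hB
  simp only [map_mul, Module.End.mul_apply, ha w hw, hb w hw, map_smul, smul_comm a b]

theorem commutator_fix' [FiniteDimensional ℂ V] {c : Fin k → F}
    (h1 : Module.finrank ℂ (eigc ρ c) = 1) {A B : GL (Fin k) F} (hA : tw A c = c) (hB : tw B c = c)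
    {w : V} (hw : w ∈ eigc ρ c) :
    ρ (lev (A * B * (B * A)⁻¹)) w = w := by
  have hinv : tw (B * A)⁻¹ c = c := by
    have h : tw (B * A) c = c := by rw [tw_mul, hA, hB]
    conv_lhs => rw [← h]
    rw [← tw_mul, inv_mul_cancel, tw_one]
  have h2 : ρ (lev (B * A)⁻¹) w ∈ eigc ρ c := by
    have h3 := lev_mem ρ (B * A)⁻¹ hw
    rwa [hinv] at h3
  rw [map_mul lev, map_mul ρ, Module.End.mul_apply, commutator_fix ρ h1 hA hB h2,
    ← Module.End.mul_apply, ← map_mul, ← map_mul, mul_inv_cancel, map_one, map_one,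
    Module.End.one_apply]

/-- The transvections of the Levi complement. -/
def TT {i j : Fin k} (hij : i ≠ j) (b : F) : GL (Fin k) F :=
  SpecialLinearGroup.toGL (SpecialLinearGroup.transvection hij b)

theorem tw_TT {i j : Fin k} (hij : i ≠ j) (b : F) (c : Fin k → F) :
    tw (TT hij b) c = c + (b * c j) • (Pi.single i 1 : Fin k → F) := by
  rw [TT, tw_toGL]
  funext x
  change ((1 + Matrix.single i j b : Matrix (Fin k) (Fin k) F) *ᵥ c) x = _
  rw [add_mulVec, one_mulVec, Pi.add_apply, Pi.add_apply]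
  congr 1
  rcases eq_or_ne x i with rfl | hx
  · simp [mulVec, dotProduct, Matrix.single_apply]
  · simp [mulVec, dotProduct, Matrix.single_apply, hx, Ne.symm hx]

theorem tw_TT_of_zero {i j : Fin k} (hij : i ≠ j) (b : F) {c : Fin k → F} (hc : c j = 0) :
    tw (TT hij b) c = c := by
  rw [tw_TT, hc, mul_zero, zero_smul, add_zero]

theorem TT_commute {i j i' j' : Fin k} (hij : i ≠ j) (hij' : i' ≠ j') (h : j ≠ i') (h' : j' ≠ i)
    (a b : F) : TT hij a * TT hij' b = TT hij' b * TT hij a := by
  unfold TT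
  rw [← map_mul, ← map_mul]
  congr 1
  apply Subtype.ext
  change Matrix.transvection i j a * Matrix.transvection i' j' b =
    Matrix.transvection i' j' b * Matrix.transvection i j a
  simp only [Matrix.transvection, mul_add, add_mul, one_mul, mul_one,
    single_mul_single_of_ne _ _ _ _ h, single_mul_single_of_ne _ _ _ _ h', add_zero]
  abel

theorem TT_comm_eq {i j l : Fin k} (hij : i ≠ j) (hil : i ≠ l) (hlj : l ≠ j) (b : F) :
    TT hil b * TT hlj 1 * (TT hlj 1 * TT hil b)⁻¹ = TT hij b := by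
  have h := congrArg (SpecialLinearGroup.toGL (n := Fin k) (R := F))
    (CfsgLib.ClassicalLinear.commutator_transvection (R := F) hij hil hlj b 1)
  rw [mul_one, map_commutatorElement, commutatorElement_def] at h
  rw [_root_.mul_inv_rev, ← mul_assoc]
  exact h

/-- The exceptions. -/
def Good (F : Type*) [Fintype F] (k : ℕ) : Prop :=
  4 ≤ k ∨ (k = 3 ∧ 4 ≤ Fintype.card F) ∨ (k = 2 ∧ Fintype.card F ≠ 2 ∧ Fintype.card F ≠ 4)

theorem exists_cube_ne_one (h2 : Fintype.card F ≠ 2) (h4 : Fintype.card F ≠ 4) :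
    ∃ a : Fˣ, a ^ 3 ≠ 1 := by
  by_contra hcon
  push Not at hcon
  have hu : Fintype.card Fˣ = Fintype.card F - 1 := Fintype.card_units F
  have h1 : Fintype.card Fˣ ≤ 3 := by
    have h := IsCyclic.card_pow_eq_one_le (α := Fˣ) (n := 3) (by norm_num)
    rwa [Finset.filter_true_of_mem fun a _ => hcon a, Finset.card_univ] at h
  have := Fintype.one_lt_card (α := F)
  have h3 : Fintype.card Fˣ = 2 := by omega
  obtain ⟨a, ha⟩ := Fintype.exists_ne_of_one_lt_card (by omega : 1 < Fintype.card Fˣ) 1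
  refine ha ?_
  have h5 : a ^ 2 = 1 := by rw [← h3]; exact pow_card_eq_one
  have h6 := hcon a
  rwa [pow_succ, h5, one_mul] at h6

/-- An invariant non-trivial one dimensional eigenspace is fixed by transvections. -/
theorem transvection_fix [FiniteDimensional ℂ V] (hgood : Good F k)
    (h1 : ∀ c : Fin k → F, c ≠ 0 → Module.finrank ℂ (eigc ρ c) = 1)
    {i j : Fin k} (hij : i ≠ j) (b : F) {c : Fin k → F} (hc : c ≠ 0) (hcj : c j = 0)
    {w : V} (hw : w ∈ eigc ρ c) : ρ (lev (TT hij b)) w = w := by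
  classical
  have hk : 2 ≤ k := by unfold Good at hgood; omega
  have hz : ∀ l, i ≠ l → ∀ hlj : l ≠ j, c l = 0 → ρ (lev (TT hij b)) w = w := by
    intro l hil hlj hl
    rw [← TT_comm_eq hij hil hlj b]
    exact commutator_fix' ρ (h1 c hc) (tw_TT_of_zero _ _ hl) (tw_TT_of_zero _ _ hcj) hw
  rcases hgood with h4 | ⟨h3, hq⟩ | ⟨h2, hq2, hq4⟩
  · obtain ⟨l, hl, m, hm, hlm⟩ : ∃ l ∈ ({i, j} : Finset (Fin k))ᶜ,
        ∃ m ∈ ({i, j} : Finset (Fin k))ᶜ, l ≠ m := by
      refine Finset.one_lt_card.1 ?_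
      rw [Finset.card_compl, Finset.card_pair hij, Fintype.card_fin]
      omega
    simp only [Finset.mem_compl, Finset.mem_insert, Finset.mem_singleton, not_or] at hl hm
    by_cases hm0 : c m = 0
    · exact hz m (Ne.symm hm.1) hm.2 hm0
    · set X : GL (Fin k) F :=
        TT (Ne.symm hl.1) b * TT (Ne.symm hm.1) (-(b * c l / c m)) with hX
      have hXc : tw X c = c := by
        rw [hX, tw_mul, tw_TT (Ne.symm hm.1), tw_TT (Ne.symm hl.1)]
        funext x
        simp only [Pi.add_apply, Pi.smul_apply, smul_eq_mul, Pi.single_eq_of_ne hl.1, mul_zero,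
          add_zero]
        field_simp
        ring
      have e : X * TT hl.2 (1 : F) * (TT hl.2 1 * X)⁻¹ = TT hij b := by
        rw [hX, _root_.mul_inv_rev, _root_.mul_inv_rev, mul_assoc (TT _ b),
          TT_commute (Ne.symm hm.1) hl.2 (Ne.symm hlm) (Ne.symm hij)]
        rw [← TT_comm_eq hij (Ne.symm hl.1) hl.2 b]
        group
      rw [← e]
      exact commutator_fix' ρ (h1 c hc) hXc (tw_TT_of_zero _ _ hcj) hw
  · obtain ⟨l, hl⟩ : ∃ l, l ∈ ({i, j} : Finset (Fin k))ᶜ := by
      refine Finset.card_pos.1 ?_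
      rw [Finset.card_compl, Finset.card_pair hij, Fintype.card_fin]
      omega
    simp only [Finset.mem_compl, Finset.mem_insert, Finset.mem_singleton, not_or] at hl
    by_cases hl0 : c l = 0
    · exact hz l (Ne.symm hl.1) hl.2 hl0
    obtain ⟨y, hy0, hy⟩ := CfsgLib.ClassicalLinear.exists_sq_ne_one_of_four_le_card (F := F)
      (by rw [Nat.card_eq_fintype_card]; exact hq)
    -- reduce to `c i = 0`
    set g : GL (Fin k) F := TT (Ne.symm hl.1) (-(c i / c l)) with hg
    set c' : Fin k → F := tw g c with hc'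
    have hc'j : c' j = 0 := by
      rw [hc', hg, tw_TT]
      simp [hcj, Ne.symm hij]
    have hc'i : c' i = 0 := by
      rw [hc', hg, tw_TT]
      simp [hl0]
    have hc'0 : c' ≠ 0 := by
      intro h0
      have h2 : tw g⁻¹ c' = c := by rw [hc', ← tw_mul, inv_mul_cancel, tw_one]
      exact hc (by rw [← h2, h0]; simp [tw])
    have hD : tw (SpecialLinearGroup.toGL (SpecialLinearGroup.diag2n hij y hy0)) c' = c' := by
      rw [tw_toGL]
      funext x
      change (diagonal (fun r => if r = i then y else if r = j then y⁻¹ else 1) *ᵥ c') x = _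
      rw [mulVec_diagonal]
      split_ifs with e1 e2
      · subst e1; rw [hc'i, mul_zero]
      · subst e2; rw [hc'j, mul_zero]
      · rw [one_mul]
    have hc'w : ρ (lev g) w ∈ eigc ρ c' := lev_mem ρ g hw
    have hy1 : y ^ 2 - 1 ≠ 0 := sub_ne_zero.2 hy
    have e := congrArg (SpecialLinearGroup.toGL (n := Fin k) (R := F))
      (CfsgLib.ClassicalLinear.commutator_diag2n_transvection hij y hy0 (b / (y ^ 2 - 1)))
    rw [mul_div_cancel₀ _ hy1, map_commutatorElement, commutatorElement_def] at e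
    have h2 := commutator_fix' ρ (h1 c' hc'0) hD
      (tw_TT_of_zero hij (b / (y ^ 2 - 1)) hc'j) hc'w
    unfold TT at h2
    rw [_root_.mul_inv_rev, ← mul_assoc, e] at h2
    change ρ (lev (TT hij b)) (ρ (lev g) w) = ρ (lev g) w at h2
    rw [← Module.End.mul_apply, ← map_mul, ← map_mul, hg,
      TT_commute hij (Ne.symm hl.1) (Ne.symm hij) hl.1, map_mul, map_mul,
      Module.End.mul_apply] at h2
    have h3 := congrArg (ρ (lev g)⁻¹) h2
    simpa only [← Module.End.mul_apply, ← map_mul ρ, ← hg, inv_mul_cancel, inv_mul_cancel_left,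
      map_one, Module.End.one_apply] using h3
  · obtain ⟨a, ha⟩ := exists_cube_ne_one (F := F) hq2 hq4
    let d : Fin k → F := fun x => if x = i then (a : F) else ((a : F) ^ 2)⁻¹
    have hd : (diagonal d).det ≠ 0 := by
      rw [det_diagonal]
      exact Finset.prod_ne_zero_iff.2 fun x _ => by simp only [d]; split_ifs <;> simp
    have hcov : (Finset.univ : Finset (Fin k)) = {i, j} := by
      symm
      rw [← Finset.card_eq_iff_eq_univ, Finset.card_pair hij, Fintype.card_fin, h2]
    let D : GL (Fin k) F := GeneralLinearGroup.mkOfDetNeZero (diagonal d) hd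
    have hdet : (diagonal d).det = (a : F)⁻¹ := by
      rw [det_diagonal, hcov, Finset.prod_pair hij]
      simp only [d, if_pos, if_neg (Ne.symm hij)]
      field_simp
    have hD : tw D c = c := by
      funext x
      change ((diagonal d).det • (diagonal d *ᵥ c)) x = c x
      rw [hdet, Pi.smul_apply, mulVec_diagonal, smul_eq_mul]
      have hx := Finset.mem_univ x
      rw [hcov, Finset.mem_insert, Finset.mem_singleton] at hx
      rcases hx with rfl | rfl
      · simp [d, ← mul_assoc]
      · simp [hcj]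
    have ha3 : (a : F) ^ 3 - 1 ≠ 0 := sub_ne_zero.2 fun e => ha (Units.ext (by simpa using e))
    set u : F := b / ((a : F) ^ 3 - 1) with hu
    have e : D * TT hij u * (TT hij u * D)⁻¹ = TT hij b := by
      rw [mul_inv_eq_iff_eq_mul, ← mul_assoc]
      apply Units.ext
      change diagonal d * Matrix.transvection i j u =
        Matrix.transvection i j b * Matrix.transvection i j u * diagonal d
      rw [Matrix.transvection_mul_transvection_same _ _ hij]
      refine CfsgLib.ClassicalLinear.diagonal_mul_transvection d u (b + u) ?_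
      simp only [d, if_pos, if_neg (Ne.symm hij)]
      rw [hu]
      field_simp
      ring
    rw [← e]
    exact commutator_fix' ρ (h1 c hc) hD (tw_TT_of_zero _ _ hcj) hw

/-- The Levi complement on the fixed space of the abelian subgroup. -/
noncomputable def sigma : Representation ℂ (GL (Fin k) F) (eigc ρ 0) where
  toFun A := (ρ (lev A)).restrict fun w hw => by
    have h := lev_mem ρ A hw
    rwa [show tw A (0 : Fin k → F) = 0 by simp [tw]] at h
  map_one' := by
    ext w : 1
    apply Subtype.ext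
    change ρ (lev 1) w.1 = w.1
    rw [map_one, map_one, Module.End.one_apply]
  map_mul' A B := by
    ext w : 1
    apply Subtype.ext
    change ρ (lev (A * B)) w.1 = ρ (lev A) (ρ (lev B) w.1)
    rw [map_mul, map_mul, Module.End.mul_apply]

theorem sigma_apply (A : GL (Fin k) F) (w : eigc ρ 0) : (sigma ρ A w).1 = ρ (lev A) w.1 := rfl

theorem lev_TT {i j : Fin k} (hij : i ≠ j) (b : F) :
    lev (TT hij b) = SpecialLinearGroup.transvection
      (i := (Sum.inr i : Fin 1 ⊕ Fin k)) (j := Sum.inr j) (by simpa using hij) b := by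
  apply Subtype.ext
  change fromBlocks ((SpecialLinearGroup.transvection hij b).1.det⁻¹ • 1) 0 0
    (SpecialLinearGroup.transvection hij b).1 = 1 + Matrix.single (Sum.inr i) (Sum.inr j) b
  rw [(SpecialLinearGroup.transvection hij b).2, inv_one, one_smul]
  change fromBlocks 1 0 0 (1 + Matrix.single i j b) = _
  ext (x | x) (y | y) <;> simp [Matrix.one_apply, Matrix.single_apply]

/-- All transvections have the same character value. -/
theorem character_transvection [FiniteDimensional ℂ V] (hk : 1 ≤ k) (htr : Trans F k)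
    {i j : Fin 1 ⊕ Fin k} (hij : i ≠ j) {b : F} (hb : b ≠ 0) (m : ℕ)
    (hm : ∀ c, c ≠ 0 → Module.finrank ℂ (eigc ρ c) = m) :
    ρ.character (SpecialLinearGroup.transvection hij b) + (m : ℂ) =
      (Module.finrank ℂ (eigc ρ 0) : ℂ) := by
  obtain ⟨m', hm', -, hch⟩ := structure_of_trans ρ hk htr
  have e : m' = m := by
    rw [← hm' (Pi.single ⟨0, hk⟩ 1) (by simp), hm _ (by simp)]
  subst e
  obtain ⟨g, hg⟩ := exists_sl_mulVec (ι := Fin 1 ⊕ Fin k) (F := F)
    (by simp; omega) (c := e0) (c' := Pi.single i 1) (by simp [e0]) (by simp)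
  obtain ⟨b', hb', he⟩ := tv_eq_conj (Pi.single i 1) (Pi.single j b) (by simp [hij]) (by simp [hb])
    g 1 one_ne_zero (by rw [hg, one_smul])
  rw [transvection_eq_tv, he, Representation.char_conj]
  exact hch b' hb'

/-- The character of a transvection on the fixed space. -/
theorem character_sigma_TT [FiniteDimensional ℂ V] (hgood : Good F k)
    (h1 : ∀ c : Fin k → F, c ≠ 0 → Module.finrank ℂ (eigc ρ c) = 1)
    {i j : Fin k} (hij : i ≠ j) :
    (sigma ρ).character (TT hij 1) + (Fintype.card F : ℂ) ^ (k - 1) =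
      (Module.finrank ℂ (eigc ρ 0) : ℂ) := by
  classical
  have hk : 2 ≤ k := by unfold Good at hgood; omega
  have hch := character_transvection ρ (i := Sum.inr i) (j := Sum.inr j) (by omega)
    (trans_of_two_le hk) (by simpa using hij) (one_ne_zero) 1 h1
  rw [← lev_TT hij] at hch
  have hfixed : ∀ c : Fin k → F, tw (TT hij 1) c = c ↔ c j = 0 := fun c =>
    ⟨fun h => by
      have := congrFun h i
      simpa [tw_TT] using this, tw_TT_of_zero hij 1⟩
  have htr := trace_perm (setup ρ) (ρ (lev (TT hij 1))) (tw (TT hij 1)) (by simp [tw])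
    (fun c w hw => lev_mem ρ _ hw)
    (fun c hc hfix w hw => transvection_fix ρ hgood h1 hij 1 hc ((hfixed c).1 hfix) hw)
  rw [Representation.character, htr, Finset.sum_congr rfl fun c hc => by
    rw [h1 c (Finset.mem_filter.1 hc).2.1], Finset.sum_const, nsmul_eq_mul] at hch
  have hcount : (Finset.univ.filter fun c : Fin k → F => c ≠ 0 ∧ tw (TT hij 1) c = c).card + 1 =
      Fintype.card F ^ (k - 1) := by
    have h2 : (Finset.univ.filter fun c : Fin k → F => c ≠ 0 ∧ tw (TT hij 1) c = c) =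
        (Finset.univ.filter fun c : Fin k → F => c j = 0).erase 0 := by
      ext c; simp [hfixed]
    rw [h2, Finset.card_erase_add_one (by simp), ← Fintype.card_subtype]
    let e : {c : Fin k → F // c j = 0} ≃ ({x : Fin k // x ≠ j} → F) :=
      { toFun := fun c x => c.1 x
        invFun := fun f => ⟨fun x => if h : x = j then 0 else f ⟨x, h⟩, by simp⟩
        left_inv := fun c => Subtype.ext (funext fun x => by
          change (if h : x = j then 0 else c.1 x) = c.1 x
          split_ifs with h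
          · rw [h, c.2]
          · rfl)
        right_inv := fun f => funext fun x => by simp [x.2] }
    rw [Fintype.card_congr e, Fintype.card_fun, Fintype.card_subtype_compl, Fintype.card_subtype_eq,
      Fintype.card_fin]
  have hcast : ((Finset.univ.filter fun c : Fin k → F => c ≠ 0 ∧ tw (TT hij 1) c = c).card : ℂ) + 1 =
      (Fintype.card F : ℂ) ^ (k - 1) := by exact_mod_cast hcount
  rw [← hch, ← hcast, Representation.character]
  simp only [Nat.cast_one, mul_one, add_assoc]
  rfl

end CfsgLib.InvCentralizers.SLParabolic
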