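import Mathlib
import Cfsg.Agent.Lib.InvCentralizers.SympBound

/-!
The odd Weil representation of `Sp_2n(q)`, `q` odd: irreducible of degree `(q^n - 1)/2`.

It is the genuine representation obtained from the projective intertwiners of the Heisenberg
operators by dividing by (determinant on the even part)/(determinant on the odd part).
-/

set_option autoImplicit false

namespace CfsgLib.InvCentralizers.WeilRep

open Matrix CfsgLib.InvCentralizers.SympBound CfsgLib.InvCentralizers.AbelianEigen CfsgLib.Laws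

variable {F : Type*} [Field F] [Fintype F] {n : ℕ}

/-- The Heisenberg operators on functions on `F^n`. -/
noncomputable def W (v : Fin n ⊕ Fin n → F) : Module.End ℂ ((Fin n → F) → ℂ) where
  toFun f z := psi F ((v ∘ Sum.inr) ⬝ᵥ z + ((v ∘ Sum.inl) ⬝ᵥ (v ∘ Sum.inr)) / 2) *
    f (z + v ∘ Sum.inl)
  map_add' f g := by funext z; simp [mul_add]
  map_smul' a f := by funext z; simp [mul_left_comm]

theorem W_apply (v : Fin n ⊕ Fin n → F) (f : (Fin n → F) → ℂ) (z : Fin n → F) :
    W v f z = psi F ((v ∘ Sum.inr) ⬝ᵥ z + ((v ∘ Sum.inl) ⬝ᵥ (v ∘ Sum.inr)) / 2) *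
      f (z + v ∘ Sum.inl) := rfl

theorem sympForm_eq (v w : Fin n ⊕ Fin n → F) :
    Cfsg.sympForm n F v w =
      (v ∘ Sum.inr) ⬝ᵥ (w ∘ Sum.inl) - (v ∘ Sum.inl) ⬝ᵥ (w ∘ Sum.inr) := by
  simp [Cfsg.sympForm, Matrix.J, fromBlocks_mulVec, dotProduct, Fintype.sum_sum_type,
    Matrix.neg_mulVec]
  ring

theorem W_mul (h2 : (2 : F) ≠ 0) (v w : Fin n ⊕ Fin n → F) :
    W v * W w = psi F (-(Cfsg.sympForm n F v w) / 2) • W (v + w) := by
  refine LinearMap.ext fun f => funext fun z => ?_
  simp only [Module.End.mul_apply, LinearMap.smul_apply, Pi.smul_apply, smul_eq_mul, W_apply,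
    ← mul_assoc, ← AddChar.map_add_eq_mul]
  have h1 : (v + w) ∘ Sum.inl = v ∘ Sum.inl + w ∘ Sum.inl := rfl
  have h2 : (v + w) ∘ Sum.inr = v ∘ Sum.inr + w ∘ Sum.inr := rfl
  rw [h1, h2, add_assoc z, sympForm_eq]
  congr 2
  simp only [add_dotProduct, dotProduct_add]
  rw [dotProduct_comm (w ∘ Sum.inl) (v ∘ Sum.inr), dotProduct_comm (w ∘ Sum.inr) (v ∘ Sum.inl)]
  field_simp
  ring

theorem W_zero : W (0 : Fin n ⊕ Fin n → F) = 1 := by
  refine LinearMap.ext fun f => funext fun z => ?_
  simp [W_apply, show (0 : Fin n ⊕ Fin n → F) ∘ Sum.inl = 0 from rfl,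
    show (0 : Fin n ⊕ Fin n → F) ∘ Sum.inr = 0 from rfl]

/-- The matrix units. -/
noncomputable def unit (a b : Fin n → F) : Module.End ℂ ((Fin n → F) → ℂ) where
  toFun f := by classical exact Pi.single a (f b)
  map_add' f g := by simp [Pi.single_add]
  map_smul' c f := by
    classical
    funext z
    by_cases h : z = a <;> simp [h]

theorem sum_psi_dot (u : Fin n → F) [Decidable (u = 0)] :
    ∑ y : Fin n → F, psi F (y ⬝ᵥ u) = if u = 0 then (Fintype.card (Fin n → F) : ℂ) else 0 := by
  split_ifs with h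
  · simp [h]
  · let χ : AddChar (Fin n → F) ℂ :=
      { toFun := fun y => psi F (y ⬝ᵥ u)
        map_zero_eq_one' := by simp
        map_add_eq_mul' := fun a b => by simp [add_dotProduct, AddChar.map_add_eq_mul] }
    refine AddChar.sum_eq_zero_of_ne_one (ψ := χ) fun hχ => ?_
    obtain ⟨k, hk⟩ := Function.ne_iff.1 h
    obtain ⟨c, hc⟩ := exists_psi_ne (F := F) hk
    refine hc ?_
    have h1 : psi F ((Pi.single k c) ⬝ᵥ u) = 1 := DFunLike.congr_fun hχ _
    rwa [single_dotProduct, mul_comm] at h1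

theorem unit_mem_span (h2 : (2 : F) ≠ 0) (a b : Fin n → F) :
    unit a b ∈ Submodule.span ℂ (Set.range (W (F := F) (n := n))) := by
  classical
  have key : ∑ y : Fin n → F, psi F (-(y ⬝ᵥ a) - ((b - a) ⬝ᵥ y) / 2) • W (Sum.elim (b - a) y) =
      (Fintype.card (Fin n → F) : ℂ) • unit a b := by
    refine LinearMap.ext fun f => funext fun z => ?_
    simp only [LinearMap.sum_apply, LinearMap.smul_apply, Finset.sum_apply, Pi.smul_apply,
      smul_eq_mul, W_apply, Sum.elim_comp_inl, Sum.elim_comp_inr]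
    have : ∀ y : Fin n → F, psi F (-(y ⬝ᵥ a) - ((b - a) ⬝ᵥ y) / 2) *
        (psi F (y ⬝ᵥ z + ((b - a) ⬝ᵥ y) / 2) * f (z + (b - a))) =
        psi F (y ⬝ᵥ (z - a)) * f (z + (b - a)) := fun y => by
      rw [← mul_assoc, ← AddChar.map_add_eq_mul, dotProduct_sub]
      congr 2
      ring
    simp only [this, ← Finset.sum_mul, sum_psi_dot, sub_eq_zero]
    rcases eq_or_ne z a with rfl | hz
    · simp [unit]
    · simp [unit, hz]
  have hq : (Fintype.card (Fin n → F) : ℂ) ≠ 0 := by exact_mod_cast Fintype.card_ne_zero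
  have hmem : (Fintype.card (Fin n → F) : ℂ) • unit a b ∈
      Submodule.span ℂ (Set.range (W (F := F) (n := n))) := by
    rw [← key]
    exact Submodule.sum_mem _ fun y _ => Submodule.smul_mem _ _ (Submodule.subset_span ⟨_, rfl⟩)
  simpa [smul_smul, inv_mul_cancel₀ hq] using
    Submodule.smul_mem _ (Fintype.card (Fin n → F) : ℂ)⁻¹ hmem

theorem span_W (h2 : (2 : F) ≠ 0) :
    Submodule.span ℂ (Set.range (W (F := F) (n := n))) = ⊤ := by
  classical
  refine Submodule.eq_top_iff'.2 fun T => ?_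
  have : T = ∑ a : Fin n → F, ∑ b : Fin n → F, T (Pi.single b 1) a • unit a b := by
    refine LinearMap.pi_ext' fun c => LinearMap.ext_ring (funext fun z => ?_)
    simp [unit, Pi.single_apply]
  rw [this]
  exact Submodule.sum_mem _ fun a _ => Submodule.sum_mem _ fun b _ =>
    Submodule.smul_mem _ _ (unit_mem_span h2 a b)

theorem linearIndependent_W (h2 : (2 : F) ≠ 0) :
    LinearIndependent ℂ (W (F := F) (n := n)) := by
  classical
  refine linearIndependent_of_top_le_span_of_card_eq_finrank (span_W h2).ge ?_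
  rw [Module.finrank_linearMap, Module.finrank_fintype_fun_eq_card]
  simp [← pow_add]

theorem apply_mem_of_invariant (h2 : (2 : F) ≠ 0) (K : Submodule ℂ ((Fin n → F) → ℂ))
    (hK : ∀ v, ∀ f ∈ K, W v f ∈ K) (T : Module.End ℂ ((Fin n → F) → ℂ)) :
    ∀ f ∈ K, T f ∈ K := by
  have hT : T ∈ Submodule.span ℂ (Set.range (W (F := F) (n := n))) := by
    rw [span_W h2]; trivial
  induction hT using Submodule.span_induction with
  | mem x hx => obtain ⟨v, rfl⟩ := hx; exact hK v
  | zero => intro f _; exact K.zero_mem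
  | add x y _ _ hx hy => intro f hf; exact K.add_mem (hx f hf) (hy f hf)
  | smul a x _ hx => intro f hf; exact K.smul_mem a (hx f hf)

theorem eq_bot_or_top_of_invariant (h2 : (2 : F) ≠ 0) (K : Submodule ℂ ((Fin n → F) → ℂ))
    (hK : ∀ v, ∀ f ∈ K, W v f ∈ K) : K = ⊥ ∨ K = ⊤ := by
  classical
  refine or_iff_not_imp_left.2 fun hne => ?_
  obtain ⟨f, hf, hf0⟩ := Submodule.exists_mem_ne_zero_of_ne_bot hne
  obtain ⟨b, hb⟩ := Function.ne_iff.1 hf0
  refine Submodule.eq_top_iff'.2 fun g => ?_
  have : g = ∑ a : Fin n → F, (g a / f b) • unit a b f := by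
    funext z
    simp [unit, Pi.single_apply, div_mul_cancel₀ _ hb]
  rw [this]
  exact K.sum_mem fun a _ => K.smul_mem _ (apply_mem_of_invariant h2 K hK _ f hf)

theorem exists_eq_smul_one_of_commute (h2 : (2 : F) ≠ 0) (Y : Module.End ℂ ((Fin n → F) → ℂ))
    (hY : ∀ v, Y * W v = W v * Y) : ∃ c : ℂ, Y = c • 1 := by
  classical
  have hall : ∀ T : Module.End ℂ ((Fin n → F) → ℂ), Y * T = T * Y := by
    intro T
    have hT : T ∈ Submodule.span ℂ (Set.range (W (F := F) (n := n))) := by
      rw [span_W h2]; trivial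
    induction hT using Submodule.span_induction with
    | mem x hx => obtain ⟨v, rfl⟩ := hx; exact hY v
    | zero => simp
    | add x y _ _ hx hy => rw [mul_add, add_mul, hx, hy]
    | smul a x _ hx => rw [mul_smul_comm, smul_mul_assoc, hx]
  refine ⟨Y (Pi.single 0 1) 0, LinearMap.pi_ext' fun a => LinearMap.ext_ring ?_⟩
  have h1 := LinearMap.congr_fun (hall (unit a 0)) (Pi.single 0 1)
  simp only [Module.End.mul_apply] at h1
  funext z
  have h3 := congrFun h1 z
  simp only [unit, LinearMap.coe_mk, AddHom.coe_mk, Pi.single_eq_same] at h3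
  simp [h3, Pi.single_apply]

/-- The action of `Sp_2n` on vectors. -/
def act (g : Matrix.symplecticGroup (Fin n) F) (v : Fin n ⊕ Fin n → F) : Fin n ⊕ Fin n → F :=
  (g : Matrix (Fin n ⊕ Fin n) (Fin n ⊕ Fin n) F) *ᵥ v

theorem act_mul (g h : Matrix.symplecticGroup (Fin n) F) (v : Fin n ⊕ Fin n → F) :
    act (g * h) v = act g (act h v) := by
  simp [act, mulVec_mulVec]

theorem act_one (v : Fin n ⊕ Fin n → F) : act 1 v = v := by
  simp [act]

theorem act_injective (g : Matrix.symplecticGroup (Fin n) F) : Function.Injective (act g) :=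
  fun v w h => by
    have := congrArg (act g⁻¹) h
    rwa [← act_mul, ← act_mul, inv_mul_cancel, act_one, act_one] at this

/-- `T` intertwines the Heisenberg operators along `g`. -/
def Inter (g : Matrix.symplecticGroup (Fin n) F) (T : Module.End ℂ ((Fin n → F) → ℂ)) : Prop :=
  ∀ v, T * W v = W (act g v) * T

theorem exists_inter (h2 : (2 : F) ≠ 0) (g : Matrix.symplecticGroup (Fin n) F) :
    ∃ T : Module.End ℂ ((Fin n → F) → ℂ), Inter g T ∧ T ≠ 0 := by
  classical
  let avg : Module.End ℂ ((Fin n → F) → ℂ) → Module.End ℂ ((Fin n → F) → ℂ) := fun A =>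
    ∑ v, W (act g v) * A * W (-v)
  have hI : ∀ A, Inter g (avg A) := by
    intro A u
    simp only [avg, Finset.sum_mul, Finset.mul_sum]
    refine Fintype.sum_equiv (Equiv.subRight u) _ _ fun v => ?_
    simp only [Equiv.subRight_apply]
    rw [mul_assoc (W (act g v) * A), W_mul h2, mul_smul_comm, ← mul_assoc (W (act g u)),
      ← mul_assoc (W (act g u)), W_mul h2, smul_mul_assoc, smul_mul_assoc]
    have e1 : act g u + act g (v - u) = act g v := by
      rw [act, act, act, ← mulVec_add, add_sub_cancel]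
    have e2 : -v + u = -(v - u) := by abel
    rw [e1, e2, show Cfsg.sympForm n F (act g u) (act g (v - u)) = Cfsg.sympForm n F u (v - u) from
      CfsgLib.Omega.sympForm_mulVec_of_mem g.2 _ _]
    congr 2
    simp only [← CfsgLib.Omega.sympBilin_apply, map_neg, map_sub, LinearMap.neg_apply,
      CfsgLib.Omega.sympBilin_self, sub_zero]
    rw [← LinearMap.IsAlt.neg (CfsgLib.Forms.sympBilin_isAlt n F) u v, neg_neg]
  by_contra hcon
  push Not at hcon
  have h0 : ∀ A, avg A = 0 := fun A => hcon _ (hI A)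
  let f : (Fin n → F) → ℂ := Pi.single 0 1
  have hsum : ∑ v, (W (-v) f 0) • W (act g v) = 0 := by
    refine LinearMap.pi_ext' fun c => LinearMap.ext_ring ?_
    have := LinearMap.congr_fun (h0 (unit c 0)) f
    simp only [avg, LinearMap.sum_apply, Module.End.mul_apply, LinearMap.zero_apply, unit,
      LinearMap.coe_mk, AddHom.coe_mk] at this
    simp only [LinearMap.comp_apply, LinearMap.coe_single, LinearMap.sum_apply,
      LinearMap.smul_apply, LinearMap.zero_apply]
    refine Eq.trans (Finset.sum_congr rfl fun v _ => ?_) this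
    rw [← LinearMap.map_smul, ← Pi.single_smul', smul_eq_mul, mul_one]
  have hli := (linearIndependent_W h2).comp (act g) (act_injective g)
  have := Fintype.linearIndependent_iff.1 hli _ hsum 0
  rw [neg_zero, W_zero] at this
  simp [f] at this

theorem Inter.isUnit (h2 : (2 : F) ≠ 0) {g : Matrix.symplecticGroup (Fin n) F}
    {T : Module.End ℂ ((Fin n → F) → ℂ)} (hT : Inter g T) (h0 : T ≠ 0) : IsUnit T := by
  rw [LinearMap.isUnit_iff_ker_eq_bot]
  refine (eq_bot_or_top_of_invariant h2 _ fun v f hf => ?_).resolve_right fun h =>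
    h0 (LinearMap.ker_eq_top.1 h)
  rw [LinearMap.mem_ker] at hf ⊢
  rw [← Module.End.mul_apply, hT v, Module.End.mul_apply, hf, map_zero]

theorem Inter.unique (h2 : (2 : F) ≠ 0) {g : Matrix.symplecticGroup (Fin n) F}
    {T T' : Module.End ℂ ((Fin n → F) → ℂ)} (hT : Inter g T) (h0 : T ≠ 0) (hT' : Inter g T') :
    ∃ c : ℂ, T' = c • T := by
  obtain ⟨U, rfl⟩ := hT.isUnit h2 h0
  obtain ⟨c, hc⟩ := exists_eq_smul_one_of_commute h2
      (((U⁻¹ : (Module.End ℂ ((Fin n → F) → ℂ))ˣ) : Module.End ℂ ((Fin n → F) → ℂ)) * T') fun v => by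
    rw [mul_assoc, hT' v, ← mul_assoc, ← mul_assoc]
    congr 1
    rw [Units.inv_mul_eq_iff_eq_mul, ← mul_assoc, hT v, mul_assoc, Units.mul_inv, mul_one]
  refine ⟨c, ?_⟩
  have := congrArg (fun X => (U : Module.End ℂ ((Fin n → F) → ℂ)) * X) hc
  simpa [← mul_assoc] using this

/-- Parity. -/
noncomputable def Pm : Module.End ℂ ((Fin n → F) → ℂ) where
  toFun f z := f (-z)
  map_add' _ _ := rfl
  map_smul' _ _ := rfl

theorem Pm_apply (f : (Fin n → F) → ℂ) (z : Fin n → F) : Pm f z = f (-z) := rfl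

theorem Pm_mul_Pm : Pm * Pm = (1 : Module.End ℂ ((Fin n → F) → ℂ)) :=
  LinearMap.ext fun f => funext fun z => by simp [Pm_apply]

theorem Pm_mul_W (v : Fin n ⊕ Fin n → F) : Pm * W v = W (-v) * Pm := by
  refine LinearMap.ext fun f => funext fun z => ?_
  have h1 : (-v) ∘ Sum.inl = -(v ∘ Sum.inl) := rfl
  have h2 : (-v) ∘ Sum.inr = -(v ∘ Sum.inr) := rfl
  simp only [Module.End.mul_apply, Pm_apply, W_apply, h1, h2, neg_dotProduct, dotProduct_neg,
    neg_neg, neg_add]

/-- The functions of parity `ε`. -/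
def par (F : Type*) [Field F] (n : ℕ) (ε : ℂ) : Submodule ℂ ((Fin n → F) → ℂ) where
  carrier := {f | ∀ z, f (-z) = ε * f z}
  add_mem' {f g} hf hg z := by simp [hf z, hg z, mul_add]
  zero_mem' z := by simp
  smul_mem' a {f} hf z := by simp [hf z, mul_left_comm]

theorem mem_par {ε : ℂ} {f : (Fin n → F) → ℂ} : f ∈ par F n ε ↔ Pm f = ε • f :=
  ⟨fun h => funext h, fun h z => congrFun h z⟩

/-- The projection onto the functions of parity `ε`. -/
noncomputable def pr (ε : ℂ) (hε : ε * ε = 1) : ((Fin n → F) → ℂ) →ₗ[ℂ] par F n ε :=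
  LinearMap.codRestrict (par F n ε) ((1 / 2 : ℂ) • (1 + ε • Pm)) fun f z => by
    simp only [LinearMap.smul_apply, LinearMap.add_apply, Module.End.one_apply, Pi.smul_apply,
      Pi.add_apply, smul_eq_mul, Pm_apply, neg_neg]
    linear_combination -(1 / 2 : ℂ) * f (-z) * hε

theorem coe_pr (ε : ℂ) (hε : ε * ε = 1) (f : (Fin n → F) → ℂ) :
    (pr ε hε f : (Fin n → F) → ℂ) = (1 / 2 : ℂ) • (f + ε • Pm f) := rfl

theorem pr_of_mem (ε : ℂ) (hε : ε * ε = 1) {f : (Fin n → F) → ℂ} (hf : f ∈ par F n ε) :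
    (pr ε hε f : (Fin n → F) → ℂ) = f := by
  rw [coe_pr, mem_par.1 hf, smul_smul, hε, one_smul, ← two_smul ℂ, smul_smul]
  norm_num

/-- Compression to the functions of parity `ε`. -/
noncomputable def res (ε : ℂ) (hε : ε * ε = 1) :
    Module.End ℂ ((Fin n → F) → ℂ) →ₗ[ℂ] Module.End ℂ (par F n ε) where
  toFun T := (pr ε hε).comp (T.comp (par F n ε).subtype)
  map_add' _ _ := by ext; simp
  map_smul' _ _ := by ext; simp

theorem mem_par_of_commute {ε : ℂ} {T : Module.End ℂ ((Fin n → F) → ℂ)} (hT : Pm * T = T * Pm)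
    {f : (Fin n → F) → ℂ} (hf : f ∈ par F n ε) : T f ∈ par F n ε := by
  rw [mem_par, ← Module.End.mul_apply, hT, Module.End.mul_apply, mem_par.1 hf, map_smul]

theorem coe_res (ε : ℂ) (hε : ε * ε = 1) {T : Module.End ℂ ((Fin n → F) → ℂ)}
    (hT : Pm * T = T * Pm) (f : par F n ε) :
    (res ε hε T f : (Fin n → F) → ℂ) = T f :=
  pr_of_mem ε hε (mem_par_of_commute hT f.2)

theorem res_one (ε : ℂ) (hε : ε * ε = 1) : res (F := F) (n := n) ε hε 1 = 1 :=
  LinearMap.ext fun f => Subtype.ext (pr_of_mem ε hε f.2)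

theorem res_mul (ε : ℂ) (hε : ε * ε = 1) {T T' : Module.End ℂ ((Fin n → F) → ℂ)}
    (hT : Pm * T = T * Pm) (hT' : Pm * T' = T' * Pm) :
    res ε hε (T * T') = res ε hε T * res ε hε T' := by
  refine LinearMap.ext fun f => Subtype.ext ?_
  rw [coe_res ε hε (by rw [← mul_assoc, hT, mul_assoc, hT', mul_assoc]), Module.End.mul_apply,
    Module.End.mul_apply, coe_res ε hε hT, coe_res ε hε hT']

/-- Even and odd parts. -/
noncomputable def splitPar : ((Fin n → F) → ℂ) ≃ₗ[ℂ] par F n 1 × par F n (-1) where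
  toFun f := (pr 1 (one_mul 1) f, pr (-1) (by norm_num) f)
  map_add' f g := by simp
  map_smul' a f := by simp
  invFun x := (x.1 : (Fin n → F) → ℂ) + x.2
  left_inv f := by
    funext z
    simp only [Pi.add_apply, coe_pr, Pi.smul_apply, smul_eq_mul, Pm_apply]
    ring
  right_inv x := by
    have h1 : Pm (x.1 : (Fin n → F) → ℂ) = x.1 := (mem_par.1 x.1.2).trans (one_smul ℂ _)
    have h2 : Pm (x.2 : (Fin n → F) → ℂ) = -x.2 :=
      (mem_par.1 x.2.2).trans (neg_one_smul ℂ _)
    refine Prod.ext (Subtype.ext ?_) (Subtype.ext ?_) <;>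
      · rw [coe_pr, map_add, h1, h2]
        funext z
        simp only [Pi.smul_apply, Pi.add_apply, Pi.neg_apply, smul_eq_mul]
        ring

/-- A set of representatives of the nonzero vectors up to sign. -/
noncomputable def reps (F : Type*) [Field F] [Fintype F] (n : ℕ) : Finset (Fin n → F) :=
  Finset.univ.filter fun z => Fintype.equivFin (Fin n → F) z < Fintype.equivFin (Fin n → F) (-z)

theorem mem_reps {z : Fin n → F} :
    z ∈ reps F n ↔ Fintype.equivFin (Fin n → F) z < Fintype.equivFin (Fin n → F) (-z) := by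
  simp [reps]

theorem neg_notMem_reps {z : Fin n → F} (h : z ∈ reps F n) : -z ∉ reps F n := by
  rw [mem_reps] at *
  rw [neg_neg]
  exact h.le.not_gt

theorem neg_ne (h2 : (2 : F) ≠ 0) {z : Fin n → F} (hz : z ≠ 0) : -z ≠ z := by
  intro h
  refine hz (funext fun i => ?_)
  have h1 : -(z i) = z i := congrFun h i
  exact (mul_eq_zero.1 (by linear_combination -h1 : (2 : F) * z i = 0)).resolve_left h2

theorem mem_reps_or (h2 : (2 : F) ≠ 0) {z : Fin n → F} (hz : z ≠ 0) :
    z ∈ reps F n ∨ -z ∈ reps F n := by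
  rw [mem_reps, mem_reps, neg_neg]
  exact lt_or_gt_of_ne fun h => neg_ne h2 hz ((Fintype.equivFin _).injective h).symm

theorem card_reps (h2 : (2 : F) ≠ 0) :
    2 * (reps F n).card + 1 = Fintype.card F ^ n := by
  classical
  have hd : Disjoint (reps F n) ((reps F n).map (Equiv.neg _).toEmbedding) := by
    rw [Finset.disjoint_left]
    intro z hz hz'
    obtain ⟨w, hw, rfl⟩ := Finset.mem_map.1 hz'
    exact neg_notMem_reps hw hz
  have hu : (reps F n).disjUnion _ hd = (Finset.univ : Finset (Fin n → F)).erase 0 := by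
    ext z
    simp only [Finset.mem_disjUnion, Finset.mem_map, Finset.mem_erase, Finset.mem_univ, and_true]
    refine ⟨?_, fun hz => (mem_reps_or h2 hz).imp_right fun h => ⟨-z, h, by simp⟩⟩
    rintro (h | ⟨w, hw, rfl⟩) h0
    · rw [h0, mem_reps, neg_zero] at h
      exact lt_irrefl _ h
    · simp only [Equiv.coe_toEmbedding, Equiv.neg_apply, neg_eq_zero] at h0
      rw [h0, mem_reps, neg_zero] at hw
      exact lt_irrefl _ hw
  have := congrArg Finset.card hu
  rw [Finset.card_disjUnion, Finset.card_map, Finset.card_erase_of_mem (Finset.mem_univ _),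
    Finset.card_univ, Fintype.card_fun, Fintype.card_fin] at this
  have : 0 < Fintype.card F ^ n := pow_pos Fintype.card_pos n
  omega

/-- Odd functions are functions on the representatives. -/
noncomputable def oddEquiv (h2 : (2 : F) ≠ 0) : par F n (-1) ≃ₗ[ℂ] (reps F n → ℂ) := by
  classical
  exact
  { toFun := fun f z => (f : (Fin n → F) → ℂ) z
    map_add' := fun f g => rfl
    map_smul' := fun a f => rfl
    invFun := fun g => ⟨fun z => if h : z ∈ reps F n then g ⟨z, h⟩ else
      if h' : -z ∈ reps F n then -g ⟨-z, h'⟩ else 0, fun z => by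
        by_cases h : z ∈ reps F n
        · simp [h, neg_notMem_reps h]
        · by_cases h' : -z ∈ reps F n <;> simp [h, h']⟩
    left_inv := fun f => by
      refine Subtype.ext (funext fun z => ?_)
      by_cases h : z ∈ reps F n
      · simp [h]
      · by_cases h' : -z ∈ reps F n
        · simp [h, h', f.2 z]
        · have hz : z = 0 := by
            by_contra hz
            exact (mem_reps_or h2 hz).elim h h'
          subst hz
          have h0 := f.2 0
          rw [neg_zero] at h0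
          have : (f : (Fin n → F) → ℂ) 0 = 0 := by linear_combination (1 / 2 : ℂ) * h0
          simp [h, this]
    right_inv := fun g => funext fun z => by simp [z.2] }

theorem finrank_odd (h2 : (2 : F) ≠ 0) :
    2 * Module.finrank ℂ (par F n (-1)) + 1 = Fintype.card F ^ n := by
  rw [(oddEquiv h2).finrank_eq, Module.finrank_fintype_fun_eq_card, Fintype.card_coe]
  exact card_reps h2

theorem finrank_even (h2 : (2 : F) ≠ 0) :
    Module.finrank ℂ (par F n 1) = Module.finrank ℂ (par F n (-1)) + 1 := by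
  have h := (splitPar (F := F) (n := n)).finrank_eq
  rw [Module.finrank_fintype_fun_eq_card, Module.finrank_prod, Fintype.card_fun,
    Fintype.card_fin] at h
  have := finrank_odd (n := n) h2
  omega

theorem Inter.mul {g h : Matrix.symplecticGroup (Fin n) F}
    {T T' : Module.End ℂ ((Fin n → F) → ℂ)} (hT : Inter g T) (hT' : Inter h T') :
    Inter (g * h) (T * T') := fun v => by
  rw [mul_assoc, hT' v, ← mul_assoc, hT, act_mul, mul_assoc]

theorem Inter.commute_Pm (h2 : (2 : F) ≠ 0) {g : Matrix.symplecticGroup (Fin n) F}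
    {T : Module.End ℂ ((Fin n → F) → ℂ)} (hT : Inter g T) (h0 : T ≠ 0) : Pm * T = T * Pm := by
  have hP : Inter g (Pm * T * Pm) := fun v => by
    have h1 : act g (-v) = -act g v := mulVec_neg _ _
    rw [mul_assoc, Pm_mul_W, ← mul_assoc, mul_assoc Pm T, hT, h1, ← mul_assoc Pm, Pm_mul_W,
      neg_neg]
    simp only [mul_assoc]
  obtain ⟨c, hc⟩ := hT.unique h2 h0 hP
  have hc2 : Pm * T = c • (T * Pm) := by
    have := congrArg (fun X => X * Pm) hc
    simpa [mul_assoc, Pm_mul_Pm] using this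
  have hcc : (c * c) • T = T := by
    have h3 : Pm * (Pm * T * Pm) * Pm = T := by
      simp only [mul_assoc, Pm_mul_Pm, mul_one]
      rw [← mul_assoc, Pm_mul_Pm, one_mul]
    conv_rhs => rw [← h3, hc, mul_smul_comm, smul_mul_assoc, hc, smul_smul]
  have hc1 : c = 1 ∨ c = -1 := by
    refine mul_self_eq_one_iff.1 ?_
    by_contra h
    exact h (smul_left_injective ℂ h0 (hcc.trans (one_smul ℂ T).symm))
  rcases hc1 with rfl | rfl
  · rwa [one_smul] at hc2
  · exfalso
    have hmem : ∀ f : par F n 1, T f ∈ par F n (-1) := fun f => by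
      rw [mem_par, ← Module.End.mul_apply, hc2, LinearMap.smul_apply, Module.End.mul_apply,
        mem_par.1 f.2, one_smul]
    have hinj : Function.Injective
        (LinearMap.codRestrict (par F n (-1)) (T.comp (par F n 1).subtype) hmem) := by
      intro a b hab
      have hT' := hT.isUnit h2 h0
      rw [LinearMap.isUnit_iff_ker_eq_bot, LinearMap.ker_eq_bot] at hT'
      exact Subtype.ext (hT' (congrArg Subtype.val hab))
    have := LinearMap.finrank_le_finrank_of_injective hinj
    rw [finrank_even h2] at this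
    omega

/-- The scalar of degree one. -/
noncomputable def cst (T : Module.End ℂ ((Fin n → F) → ℂ)) : ℂ :=
  LinearMap.det (res 1 (one_mul 1) T) / LinearMap.det (res (-1) (by norm_num) T)

/-- The normalised operator on the odd functions. -/
noncomputable def nrm (T : Module.End ℂ ((Fin n → F) → ℂ)) : Module.End ℂ (par F n (-1)) :=
  (cst T)⁻¹ • res (-1) (by norm_num) T

theorem det_res_ne_zero (ε : ℂ) (hε : ε * ε = 1) {T : Module.End ℂ ((Fin n → F) → ℂ)}
    (hT : Pm * T = T * Pm) (hU : IsUnit T) : LinearMap.det (res ε hε T) ≠ 0 := by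
  obtain ⟨U, rfl⟩ := hU
  have hU' : Pm * ((U⁻¹ : (Module.End ℂ ((Fin n → F) → ℂ))ˣ) : Module.End ℂ ((Fin n → F) → ℂ)) =
      ((U⁻¹ : (Module.End ℂ ((Fin n → F) → ℂ))ˣ) : Module.End ℂ ((Fin n → F) → ℂ)) * Pm :=
    Commute.units_inv_right hT
  intro h
  have := congrArg LinearMap.det (res_mul ε hε hT hU')
  rw [Units.mul_inv, res_one, map_mul, h, zero_mul, map_one] at this
  exact one_ne_zero this

theorem nrm_smul (h2 : (2 : F) ≠ 0) {a : ℂ} (ha : a ≠ 0) (T : Module.End ℂ ((Fin n → F) → ℂ)) :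
    nrm (a • T) = nrm T := by
  have hc : cst (a • T) = a * cst T := by
    simp only [cst, map_smul, LinearMap.det_smul, finrank_even h2, pow_succ]
    rw [mul_comm (a ^ _) a, mul_assoc, mul_div_assoc,
      mul_div_mul_left _ _ (pow_ne_zero _ ha)]
  rw [nrm, hc, map_smul, smul_smul, nrm]
  congr 1
  rw [mul_inv, mul_comm a⁻¹, mul_assoc, inv_mul_cancel₀ ha, mul_one]

theorem nrm_mul {T T' : Module.End ℂ ((Fin n → F) → ℂ)} (hT : Pm * T = T * Pm)
    (hT' : Pm * T' = T' * Pm) : nrm (T * T') = nrm T * nrm T' := by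
  simp only [nrm, cst, res_mul _ _ hT hT', map_mul, smul_mul_assoc, mul_smul_comm, smul_smul]
  congr 1
  rw [← mul_inv, div_mul_div_comm]
  ring

theorem nrm_one : nrm (1 : Module.End ℂ ((Fin n → F) → ℂ)) = 1 := by
  simp [nrm, cst, res_one]

/-- A chosen intertwiner. -/
noncomputable def op (h2 : (2 : F) ≠ 0) (g : Matrix.symplecticGroup (Fin n) F) :
    Module.End ℂ ((Fin n → F) → ℂ) := (exists_inter h2 g).choose

theorem op_spec (h2 : (2 : F) ≠ 0) (g : Matrix.symplecticGroup (Fin n) F) :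
    Inter g (op h2 g) ∧ op h2 g ≠ 0 := (exists_inter h2 g).choose_spec

theorem nrm_op (h2 : (2 : F) ≠ 0) (g : Matrix.symplecticGroup (Fin n) F)
    {T : Module.End ℂ ((Fin n → F) → ℂ)} (hT : Inter g T) (h0 : T ≠ 0) :
    nrm (op h2 g) = nrm T := by
  obtain ⟨a, ha⟩ := hT.unique h2 h0 (op_spec h2 g).1
  have ha0 : a ≠ 0 := fun h => (op_spec h2 g).2 (by rw [ha, h, zero_smul])
  rw [ha, nrm_smul h2 ha0]

/-- The odd Weil representation. -/
noncomputable def weil (h2 : (2 : F) ≠ 0) :
    Representation ℂ (Matrix.symplecticGroup (Fin n) F) (par F n (-1)) where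
  toFun g := nrm (op h2 g)
  map_one' := by
    refine (nrm_op h2 1 (T := 1) (fun v => ?_)
      (fun e => (op_spec h2 1).2 (by rw [← mul_one (op h2 1), e, mul_zero]))).trans nrm_one
    rw [one_mul, act_one, mul_one]
  map_mul' g h := by
    obtain ⟨hg, hg0⟩ := op_spec h2 g
    obtain ⟨hh, hh0⟩ := op_spec h2 h
    rw [nrm_op h2 (g * h) (hg.mul hh)
      (fun e => hh0 ((hg.isUnit h2 hg0).mul_right_eq_zero.1 e)),
      nrm_mul (hg.commute_Pm h2 hg0) (hh.commute_Pm h2 hh0)]

/-- The value of the Weil representation at an element with a known intertwiner. -/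
theorem weil_apply (h2 : (2 : F) ≠ 0) (g : Matrix.symplecticGroup (Fin n) F)
    {T : Module.End ℂ ((Fin n → F) → ℂ)} (hT : Inter g T) (h0 : T ≠ 0) :
    ∃ s : ℂ, s ≠ 0 ∧ ∀ f : par F n (-1), ∀ z,
      (weil h2 g f : (Fin n → F) → ℂ) z = s * T f z := by
  have hc := hT.commute_Pm h2 h0
  refine ⟨(cst T)⁻¹, inv_ne_zero (div_ne_zero (det_res_ne_zero _ _ hc (hT.isUnit h2 h0))
    (det_res_ne_zero _ _ hc (hT.isUnit h2 h0))), fun f z => ?_⟩
  change (nrm (op h2 g) f : (Fin n → F) → ℂ) z = _
  rw [nrm_op h2 g hT h0, nrm, LinearMap.smul_apply, Submodule.coe_smul, Pi.smul_apply,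
    smul_eq_mul, coe_res _ _ hc]

/-- Multiplication by a quadratic phase. -/
noncomputable def lowerOp (S : symMat n F) : Module.End ℂ ((Fin n → F) → ℂ) where
  toFun f z := psi F (-(qval S z) / 2) * f z
  map_add' f g := by funext z; simp [mul_add]
  map_smul' a f := by funext z; simp [mul_left_comm]

theorem lowerOp_inter (h2 : (2 : F) ≠ 0) (S : symMat n F) :
    Inter (lower S) (lowerOp S) := by
  intro v
  refine LinearMap.ext fun f => funext fun z => ?_
  have h1 : act (lower S) v ∘ Sum.inl = v ∘ Sum.inl := by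
    funext i; simp [act, lower, fromBlocks_mulVec]
  have h3 : act (lower S) v ∘ Sum.inr =
      (S : Matrix (Fin n) (Fin n) F) *ᵥ (v ∘ Sum.inl) + v ∘ Sum.inr := by
    funext i; simp [act, lower, fromBlocks_mulVec]
  simp only [Module.End.mul_apply, lowerOp, LinearMap.coe_mk, AddHom.coe_mk, W_apply, h1, h3,
    ← mul_assoc, ← AddChar.map_add_eq_mul]
  congr 2
  simp only [qval]
  set x := v ∘ Sum.inl
  set y := v ∘ Sum.inr
  set M := (S : Matrix (Fin n) (Fin n) F)
  have hsym : (M *ᵥ x) ⬝ᵥ z = x ⬝ᵥ (M *ᵥ z) := by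
    rw [dotProduct_mulVec, ← mulVec_transpose, transpose_coe]
  have hsym' : z ⬝ᵥ (M *ᵥ x) = x ⬝ᵥ (M *ᵥ z) := by rw [dotProduct_comm, hsym]
  simp only [add_dotProduct, dotProduct_add, mulVec_add, hsym, hsym']
  field_simp
  ring

/-- The geometric action of `GL_n`. -/
noncomputable def glOp (A : GL (Fin n) F) : Module.End ℂ ((Fin n → F) → ℂ) where
  toFun f z := f (((A⁻¹ : GL (Fin n) F) : Matrix (Fin n) (Fin n) F) *ᵥ z)
  map_add' _ _ := rfl
  map_smul' _ _ := rfl

theorem glOp_inter (A : GL (Fin n) F) : Inter (glSp n A) (glOp A) := by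
  intro v
  refine LinearMap.ext fun f => funext fun z => ?_
  have h1 : act (glSp n A) v ∘ Sum.inl = (A : Matrix (Fin n) (Fin n) F) *ᵥ (v ∘ Sum.inl) := by
    funext i; simp [act, glSp, doubleHom, fromBlocks_mulVec]
  have h3 : act (glSp n A) v ∘ Sum.inr =
      ((A⁻¹ : GL (Fin n) F) : Matrix (Fin n) (Fin n) F)ᵀ *ᵥ (v ∘ Sum.inr) := by
    funext i; simp [act, glSp, doubleHom, fromBlocks_mulVec]
  simp only [Module.End.mul_apply, glOp, LinearMap.coe_mk, AddHom.coe_mk, W_apply, h1, h3,
    mulVec_add, mulVec_mulVec, Units.inv_mul, one_mulVec]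
  congr 3
  · rw [mulVec_transpose, ← dotProduct_mulVec]
  · congr 1
    rw [dotProduct_comm ((A : Matrix (Fin n) (Fin n) F) *ᵥ (v ∘ Sum.inl)), mulVec_transpose,
      ← dotProduct_mulVec, mulVec_mulVec, Units.inv_mul, one_mulVec, dotProduct_comm]

set_option maxHeartbeats 1600000 in
theorem weil_irreducible (h2 : (2 : F) ≠ 0) (hn : 2 ≤ n) (hq : 3 ≤ Fintype.card F)
    (K : Submodule ℂ (par F n (-1))) (hK : ∀ g, ∀ f ∈ K, weil h2 g f ∈ K) :
    K = ⊥ ∨ K = ⊤ := by
  classical
  by_contra hcon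
  push Not at hcon
  obtain ⟨hbot, htop⟩ := hcon
  let σ : Representation ℂ (Matrix.symplecticGroup (Fin n) F) K :=
    { toFun := fun g => (weil h2 g).restrict (hK g)
      map_one' := by
        refine LinearMap.ext fun x => Subtype.ext ?_
        change weil h2 1 (x : par F n (-1)) = x
        rw [map_one]; rfl
      map_mul' := fun g h => by
        refine LinearMap.ext fun x => Subtype.ext ?_
        change weil h2 (g * h) (x : par F n (-1)) = weil h2 g (weil h2 h x)
        rw [map_mul]; rfl }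
  have hlt := Submodule.finrank_lt htop
  have hodd := finrank_odd (n := n) h2
  have hlt' : 2 * Module.finrank ℂ K < Fintype.card F ^ n - 1 := by
    generalize Fintype.card F ^ n = N at *
    omega
  have htriv := eq_one_of_finrank_lt (V := (K : Submodule ℂ (par F n (-1)))) σ (show 0 < n by omega) h2 hlt'
  obtain ⟨f, hf, hf0⟩ := Submodule.exists_mem_ne_zero_of_ne_bot hbot
  have hfix : ∀ g, weil h2 g f = f := fun g =>
    congrArg Subtype.val (LinearMap.congr_fun (htriv g) ⟨f, hf⟩)
  obtain ⟨z₀, hz₀⟩ : ∃ z, (f : (Fin n → F) → ℂ) z ≠ 0 := by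
    by_contra h; push Not at h
    exact hf0 (Subtype.ext (funext h))
  have hne0 : ∀ {z}, (f : (Fin n → F) → ℂ) z ≠ 0 → z ≠ 0 := by
    rintro z hz rfl
    have := f.2 0
    rw [neg_zero] at this
    exact hz (by linear_combination (1 / 2 : ℂ) * this)
  have hsupp : ∀ {z}, (f : (Fin n → F) → ℂ) z ≠ 0 → vecMulVec z z = vecMulVec z₀ z₀ := by
    intro z hz
    by_contra hne
    have hmem : vecMulVec z z - vecMulVec z₀ z₀ ∈ symMat n F :=
      sub_mem (transpose_vecMulVec z z) (transpose_vecMulVec z₀ z₀)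
    have hB : (⟨_, hmem⟩ : symMat n F) ≠ 0 := fun h =>
      hne (sub_eq_zero.1 (congrArg Subtype.val h))
    have : Fintype (symMat n F) := Fintype.ofFinite _
    have hsum := pairing_orth h2 hB
    have hone : ∀ S : symMat n F, pairing (⟨_, hmem⟩ : symMat n F) S = 1 := by
      intro S
      have hT0 : lowerOp ((-2 : F) • S) ≠ 0 := fun h => by
        have := congrFun (LinearMap.congr_fun h (fun _ => 1)) 0
        simp [lowerOp, qval] at this
      obtain ⟨s, -, hs⟩ := weil_apply h2 _ (lowerOp_inter h2 ((-2 : F) • S)) hT0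
      have e : ∀ w, (f : (Fin n → F) → ℂ) w ≠ 0 → s * psi F (qval S w) = 1 := by
        intro w hw
        have h1 := hs f w
        rw [hfix] at h1
        simp only [lowerOp, LinearMap.coe_mk, AddHom.coe_mk] at h1
        have hq2 : -qval ((-2 : F) • S) w / 2 = qval S w := by
          simp only [qval, Submodule.coe_smul, Matrix.smul_mulVec, dotProduct_smul, smul_eq_mul]
          field_simp
        rw [hq2, ← mul_assoc] at h1
        exact mul_right_cancel₀ hw (h1.symm.trans (one_mul _).symm)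
      have hq3 : ∀ w : Fin n → F, trace (vecMulVec w w * (S : Matrix (Fin n) (Fin n) F)) =
          qval S w := by
        intro w
        rw [trace_mul_comm, mul_vecMulVec, trace_vecMulVec, dotProduct_comm, qval]
      simp only [pairing, Matrix.sub_mul, trace_sub, hq3, AddChar.map_sub_eq_div]
      have e1 := e z hz
      have e2 := e z₀ hz₀
      have hs0 : s ≠ 0 := left_ne_zero_of_mul_eq_one e1
      rw [mul_left_cancel₀ hs0 (e1.trans e2.symm)]
      exact div_self (right_ne_zero_of_mul_eq_one e2)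
    simp [hone] at hsum
  obtain ⟨k, hk⟩ := Function.ne_iff.1 (hne0 hz₀)
  simp only [Pi.zero_apply] at hk
  have hmove : ∀ u : Fin n → F, u ≠ 0 → u = z₀ ∨ u = -z₀ := by
    intro u hu
    obtain ⟨A, hA⟩ := exists_transpose_mulVec hu (hne0 hz₀)
    let B : GL (Fin n) F := GeneralLinearGroup.mkOfDetNeZero (A : Matrix (Fin n) (Fin n) F)ᵀ
      (by rw [det_transpose]; exact ((Matrix.isUnit_iff_isUnit_det _).1 A.isUnit).ne_zero)
    have hT0 : glOp B⁻¹ ≠ 0 := fun h => by
      have := congrFun (LinearMap.congr_fun h (fun _ => 1)) 0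
      simp [glOp] at this
    obtain ⟨s, hs0, hs⟩ := weil_apply h2 _ (glOp_inter B⁻¹) hT0
    have h1 := hs f u
    rw [hfix] at h1
    simp only [glOp, LinearMap.coe_mk, AddHom.coe_mk, inv_inv] at h1
    have hBu : (B : Matrix (Fin n) (Fin n) F) *ᵥ u = z₀ := hA
    rw [hBu] at h1
    have hu' : (f : (Fin n → F) → ℂ) u ≠ 0 := by rw [h1]; exact mul_ne_zero hs0 hz₀
    have h3 := hsupp hu'
    have hkk : u k * u k = z₀ k * z₀ k := congrFun (congrFun h3 k) k
    have huk : u k = z₀ k ∨ u k = -z₀ k := mul_self_eq_mul_self_iff.1 hkk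
    refine huk.imp (fun e => funext fun i => ?_) (fun e => funext fun i => ?_)
    · have : u k * u i = z₀ k * z₀ i := congrFun (congrFun h3 k) i
      rw [e] at this
      exact mul_left_cancel₀ hk this
    · have : u k * u i = z₀ k * z₀ i := congrFun (congrFun h3 k) i
      rw [e] at this
      exact mul_left_cancel₀ hk (show z₀ k * u i = z₀ k * (-z₀) i by
        simp only [Pi.neg_apply]; linear_combination -this)
  have hcard : ((Finset.univ : Finset (Fin n → F)).erase 0).card ≤ 2 := by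
    refine (Finset.card_le_card (t := {z₀, -z₀}) fun u hu => ?_).trans Finset.card_le_two
    simpa using hmove u (Finset.ne_of_mem_erase hu)
  rw [Finset.card_erase_of_mem (Finset.mem_univ _), Finset.card_univ, Fintype.card_fun,
    Fintype.card_fin] at hcard
  have h9 : 9 ≤ Fintype.card F ^ n :=
    le_trans (by nlinarith : 9 ≤ Fintype.card F ^ 2) (Nat.pow_le_pow_right (by omega) hn)
  omega

end CfsgLib.InvCentralizers.WeilRep
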